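import Mathlib

/-!
# Best offenders and the replacement theorem
-/

set_option autoImplicit false
set_option linter.style.haveILetI false
set_option linter.unusedSectionVars false

namespace CfsgLib.Offender

variable {G V : Type*} [Group G] [Finite G] [AddCommGroup V] [Finite V] {p : ℕ} [Fact p.Prime]
  [Module (ZMod p) V] (ρ : Representation (ZMod p) G V)

/-- The fixed space of a set of group elements. -/
def fixSpace (B : Set G) : Submodule (ZMod p) V :=
  ⨅ b ∈ B, LinearMap.ker (ρ b - 1)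

variable {ρ}

theorem mem_fixSpace {B : Set G} {v : V} : v ∈ fixSpace ρ B ↔ ∀ b ∈ B, ρ b v = v := by
  simp [fixSpace, Submodule.mem_iInf, sub_eq_zero]

theorem fixSpace_anti {B C : Set G} (h : B ⊆ C) : fixSpace ρ C ≤ fixSpace ρ B := fun _ hv =>
  mem_fixSpace.2 fun b hb => mem_fixSpace.1 hv b (h hb)

variable (ρ)

/-- No subgroup of `A` beats `A` in the measure `|B| |C_V(B)|`. -/
def Best (A : Subgroup G) : Prop :=
  ∀ B ≤ A, Nat.card B * Nat.card (fixSpace ρ (B : Set G)) ≤
    Nat.card A * Nat.card (fixSpace ρ (A : Set G))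

variable {ρ}

theorem fixSpace_bot : fixSpace ρ ((⊥ : Subgroup G) : Set G) = ⊤ := by
  refine eq_top_iff.2 fun v _ => mem_fixSpace.2 fun b hb => ?_
  rw [Subgroup.coe_bot, Set.mem_singleton_iff] at hb
  simp [hb]

theorem card_inf_mul_card_sup (B₁ B₂ : Subgroup G) :
    Nat.card B₁ * Nat.card B₂ ≤ Nat.card ↥(B₁ ⊓ B₂) * Nat.card ↥(B₁ ⊔ B₂) := by
  have h1 : Nat.card B₂ = Nat.card ↥(B₁ ⊓ B₂) * (B₁ ⊓ B₂).relIndex B₂ := by
    rw [← Subgroup.relIndex_bot_left, ← Subgroup.relIndex_bot_left,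
      Subgroup.relIndex_mul_relIndex _ _ _ bot_le inf_le_right]
  have h2 : Nat.card ↥(B₁ ⊔ B₂) = Nat.card B₁ * B₁.relIndex (B₁ ⊔ B₂) := by
    rw [← Subgroup.relIndex_bot_left, ← Subgroup.relIndex_bot_left,
      Subgroup.relIndex_mul_relIndex _ _ _ bot_le le_sup_left]
  have h3 : B₁.relIndex B₂ ≤ B₁.relIndex (B₁ ⊔ B₂) :=
    Subgroup.relIndex_le_of_le_right le_sup_right Subgroup.index_ne_zero_of_finite
  rw [h1, h2, Subgroup.inf_relIndex_right]
  calc Nat.card B₁ * (Nat.card ↥(B₁ ⊓ B₂) * B₁.relIndex B₂)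
      = Nat.card ↥(B₁ ⊓ B₂) * (Nat.card B₁ * B₁.relIndex B₂) := by ring
    _ ≤ _ := by gcongr

theorem card_sup_mul_card_inf (S T : Submodule (ZMod p) V) :
    Nat.card ↥(S ⊔ T) * Nat.card ↥(S ⊓ T) = Nat.card S * Nat.card T := by
  have : Module.Finite (ZMod p) V := Module.Finite.of_finite
  rw [Module.natCard_eq_pow_finrank (K := ZMod p) (V := ↥(S ⊔ T)),
    Module.natCard_eq_pow_finrank (K := ZMod p) (V := ↥(S ⊓ T)),
    Module.natCard_eq_pow_finrank (K := ZMod p) (V := S),
    Module.natCard_eq_pow_finrank (K := ZMod p) (V := T),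
    ← pow_add, ← pow_add, Submodule.finrank_sup_add_finrank_inf_eq]

/-- Two subgroups attaining the maximum: so does their intersection. -/
theorem inf_maximum {A B₁ B₂ : Subgroup G} (hA : Best ρ A) (h₁ : B₁ ≤ A) (h₂ : B₂ ≤ A)
    (e₁ : Nat.card A * Nat.card (fixSpace ρ (A : Set G)) ≤
      Nat.card B₁ * Nat.card (fixSpace ρ (B₁ : Set G)))
    (e₂ : Nat.card A * Nat.card (fixSpace ρ (A : Set G)) ≤
      Nat.card B₂ * Nat.card (fixSpace ρ (B₂ : Set G))) :
    (Nat.card A * Nat.card (fixSpace ρ (A : Set G)) ≤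
        Nat.card ↥(B₁ ⊓ B₂) * Nat.card (fixSpace ρ ((B₁ ⊓ B₂ : Subgroup G) : Set G))) ∧
      fixSpace ρ ((B₁ ⊓ B₂ : Subgroup G) : Set G) =
        fixSpace ρ (B₁ : Set G) ⊔ fixSpace ρ (B₂ : Set G) := by
  set M := Nat.card A * Nat.card (fixSpace ρ (A : Set G)) with hM
  set I := fixSpace ρ ((B₁ ⊓ B₂ : Subgroup G) : Set G)
  set J := fixSpace ρ ((B₁ ⊔ B₂ : Subgroup G) : Set G)
  set F₁ := fixSpace ρ (B₁ : Set G)
  set F₂ := fixSpace ρ (B₂ : Set G)
  have hI : F₁ ⊔ F₂ ≤ I := sup_le (fixSpace_anti fun b hb => hb.1) (fixSpace_anti fun b hb => hb.2)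
  have hJ : F₁ ⊓ F₂ ≤ J := by
    rintro v ⟨hv₁, hv₂⟩
    refine mem_fixSpace.2 fun b hb => ?_
    rw [SetLike.mem_coe, Subgroup.sup_eq_closure] at hb
    induction hb using Subgroup.closure_induction with
    | mem x hx => exact hx.elim (mem_fixSpace.1 hv₁ x) (mem_fixSpace.1 hv₂ x)
    | one => simp
    | mul x y _ _ hx hy => rw [map_mul, Module.End.mul_apply, hy, hx]
    | inv x _ hx =>
      conv_lhs => rw [← hx]
      rw [← Module.End.mul_apply, ← map_mul, inv_mul_cancel, map_one, Module.End.one_apply]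
  have hcI := Nat.card_mono (Set.toFinite (I : Set V)) hI
  have hcJ := Nat.card_mono (Set.toFinite (J : Set V)) hJ
  have hIle : Nat.card ↥(B₁ ⊓ B₂) * Nat.card I ≤ M := hA _ (inf_le_left.trans h₁)
  have hJle : Nat.card ↥(B₁ ⊔ B₂) * Nat.card J ≤ M := hA _ (sup_le h₁ h₂)
  have hkey : M * M ≤ (Nat.card ↥(B₁ ⊓ B₂) * Nat.card ↥(F₁ ⊔ F₂)) * M :=
    calc M * M ≤ (Nat.card B₁ * Nat.card F₁) * (Nat.card B₂ * Nat.card F₂) := Nat.mul_le_mul e₁ e₂
      _ = (Nat.card B₁ * Nat.card B₂) * (Nat.card F₁ * Nat.card F₂) := by ring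
      _ ≤ (Nat.card ↥(B₁ ⊓ B₂) * Nat.card ↥(B₁ ⊔ B₂)) *
          (Nat.card ↥(F₁ ⊔ F₂) * Nat.card ↥(F₁ ⊓ F₂)) := by
        rw [card_sup_mul_card_inf]
        exact Nat.mul_le_mul_right _ (card_inf_mul_card_sup B₁ B₂)
      _ = (Nat.card ↥(B₁ ⊓ B₂) * Nat.card ↥(F₁ ⊔ F₂)) *
          (Nat.card ↥(B₁ ⊔ B₂) * Nat.card ↥(F₁ ⊓ F₂)) := by ring
      _ ≤ (Nat.card ↥(B₁ ⊓ B₂) * Nat.card ↥(F₁ ⊔ F₂)) * M :=
        Nat.mul_le_mul_left _ ((Nat.mul_le_mul_left _ hcJ).trans hJle)
  have hMpos : 0 < M := Nat.mul_pos Nat.card_pos Nat.card_pos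
  have h2 := Nat.le_of_mul_le_mul_right hkey hMpos
  refine ⟨h2.trans (Nat.mul_le_mul_left _ hcI), le_antisymm ?_ hI⟩
  have h3 : Nat.card I ≤ Nat.card ↥(F₁ ⊔ F₂) :=
    Nat.le_of_mul_le_mul_left (hIle.trans h2) Nat.card_pos
  exact (SetLike.coe_injective (Set.eq_of_subset_of_ncard_le hI
    (by rwa [← Nat.card_coe_set_eq, ← Nat.card_coe_set_eq]) (Set.toFinite _))).ge

/-- A commuting family of unipotent maps: a vector space is not swept out by fixed points and
commutators unless it is fixed. -/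
theorem fixed_of_le_sup {A : Subgroup G} (hc : ∀ a ∈ A, ∀ b ∈ A, a * b = b * a)
    (hp : ∀ a ∈ A, ∃ k, a ^ p ^ k = 1) (U : Submodule (ZMod p) V) (hU : U ≤
      fixSpace ρ (A : Set G) ⊔ Submodule.span (ZMod p) {u | ∃ a ∈ A, ∃ w ∈ U, u = ρ a w - w})
    (hUi : ∀ a ∈ A, ∀ u ∈ U, ρ a u ∈ U) : U ≤ fixSpace ρ (A : Set G) := by
  classical
  haveI := Fintype.ofFinite G
  haveI : CharP (Module.End (ZMod p) V) p ∨ Subsingleton V := by
    rcases subsingleton_or_nontrivial V with h | h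
    · exact Or.inr h
    · exact Or.inl (charP_of_injective_algebraMap
        (FaithfulSMul.algebraMap_injective (ZMod p) (Module.End (ZMod p) V)) p)
  rcases this with hchar | hsub
  swap
  · intro u _
    rw [Subsingleton.elim u 0]
    exact zero_mem _
  have hnil : ∀ a ∈ A, IsNilpotent (ρ a - 1) := fun a ha => by
    obtain ⟨k, hk⟩ := hp a ha
    refine ⟨p ^ k, ?_⟩
    rw [sub_pow_char_pow_of_commute p k (Commute.one_right (ρ a)), ← map_pow, hk, map_one, one_pow,
      sub_self]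
  have hcomm : ∀ a ∈ A, ∀ b ∈ A, Commute (ρ a) (ρ b) := fun a ha b hb => by
    show ρ a * ρ b = ρ b * ρ a
    rw [← map_mul, ← map_mul, hc a ha b hb]
  suffices h : ∀ s : Finset G, (↑s : Set G) ⊆ A → U ≤ fixSpace ρ (A : Set G) ⊔
      (⨆ a ∈ (A : Set G) \ ↑s, Submodule.map (ρ a - 1) U) by
    have h1 := h (Finset.univ.filter (· ∈ A)) (by intro a; simp)
    refine h1.trans (sup_le le_rfl ?_)
    simp
  intro s
  induction s using Finset.induction_on with
  | empty =>
    intro _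
    refine hU.trans (sup_le_sup_left ?_ _)
    rw [Submodule.span_le]
    rintro _ ⟨a, ha, w, hw, rfl⟩
    exact Submodule.mem_iSup_of_mem a (Submodule.mem_iSup_of_mem ⟨ha, by simp⟩ ⟨w, hw, rfl⟩)
  | @insert a s has ih =>
    intro hs
    rw [Finset.coe_insert, Set.insert_subset_iff] at hs
    set R := fixSpace ρ (A : Set G) ⊔
      ⨆ b ∈ (A : Set G) \ ↑(insert a s), Submodule.map (ρ b - 1) U with hR
    have hRi : Submodule.map (ρ a - 1) R ≤ R := by
      rw [hR, Submodule.map_sup, Submodule.map_iSup]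
      refine sup_le ?_ (iSup_le fun b => ?_)
      · rintro _ ⟨v, hv, rfl⟩
        simp [mem_fixSpace.1 hv a hs.1]
      · rw [Submodule.map_iSup]
        refine iSup_le fun hb => le_sup_of_le_right ?_
        rintro _ ⟨_, ⟨w, hw, rfl⟩, rfl⟩
        refine Submodule.mem_iSup_of_mem b (Submodule.mem_iSup_of_mem hb ⟨(ρ a - 1) w,
          sub_mem (hUi a hs.1 w hw) hw, ?_⟩)
        rw [← Module.End.mul_apply, ← Module.End.mul_apply,
          (((hcomm b hb.1 a hs.1).sub_left (Commute.one_left _)).sub_right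
            (Commute.one_right _)).eq]
    have hstep : U ≤ R ⊔ Submodule.map (ρ a - 1) U := by
      refine (ih hs.2).trans (sup_le (le_sup_of_le_left le_sup_left) (iSup₂_le fun b hb => ?_))
      by_cases hba : b = a
      · exact hba ▸ le_sup_right
      · refine le_sup_of_le_left (le_sup_of_le_right ?_)
        refine le_iSup₂_of_le b ⟨hb.1, ?_⟩ le_rfl
        simp [hba, show b ∉ s from fun h => hb.2 h]
    obtain ⟨m, hm⟩ := hnil a hs.1
    have hit : ∀ j, U ≤ R ⊔ Submodule.map ((ρ a - 1) ^ j) U := by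
      intro j
      induction j with
      | zero => simp [Module.End.one_eq_id]
      | succ j ihj =>
        refine ihj.trans (sup_le le_sup_left ?_)
        refine (Submodule.map_mono hstep).trans ?_
        rw [Submodule.map_sup, ← Submodule.map_comp, ← Module.End.mul_eq_comp, ← pow_succ]
        refine sup_le_sup_right ?_ _
        clear ihj
        induction j with
        | zero => simp [Module.End.one_eq_id]
        | succ j ihj =>
          rw [pow_succ', Module.End.mul_eq_comp, Submodule.map_comp]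
          exact (Submodule.map_mono ihj).trans hRi
    have := hit m
    rwa [hm, Submodule.map_zero, sup_bot_eq] at this

/-- **Replacement.** A nontrivial best offender contains a nontrivial best offender whose
commutator space is fixed by the whole offender. -/
theorem exists_quadratic_offender {A : Subgroup G} (hA : Best ρ A)
    (hc : ∀ a ∈ A, ∀ b ∈ A, a * b = b * a) (hp : ∀ a ∈ A, ∃ k, a ^ p ^ k = 1)
    (hne : ∃ a ∈ A, ρ a ≠ 1) :
    ∃ T ≤ A, (Nat.card A * Nat.card (fixSpace ρ (A : Set G)) ≤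
        Nat.card T * Nat.card (fixSpace ρ (T : Set G))) ∧
      (∀ b ∈ T, ∀ a ∈ A, (ρ a - 1) * (ρ b - 1) = 0) ∧ ∃ b ∈ T, ρ b ≠ 1 := by
  classical
  haveI := Fintype.ofFinite V
  set M := Nat.card A * Nat.card (fixSpace ρ (A : Set G)) with hM
  set F := fixSpace ρ (A : Set G)
  let Bw : V → Subgroup G := fun w =>
    { carrier := {b | b ∈ A ∧ ∀ a ∈ A, ρ b (ρ a w - w) = ρ a w - w}
      one_mem' := ⟨A.one_mem, fun a _ => by simp⟩
      mul_mem' := fun {x y} hx hy => ⟨A.mul_mem hx.1 hy.1, fun a ha => by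
        rw [map_mul, Module.End.mul_apply, hy.2 a ha, hx.2 a ha]⟩
      inv_mem' := fun {x} hx => ⟨A.inv_mem hx.1, fun a ha => by
        conv_lhs => rw [← hx.2 a ha]
        rw [← Module.End.mul_apply, ← map_mul, inv_mul_cancel, map_one, Module.End.one_apply]⟩ }
  let Sw : V → Submodule (ZMod p) V := fun w =>
    F ⊔ Submodule.span (ZMod p) ((fun a => ρ a w - w) '' (A : Set G))
  have hBA : ∀ w, Bw w ≤ A := fun w b hb => hb.1
  have hone : ∀ w, M ≤ Nat.card (Bw w) * Nat.card (fixSpace ρ (Bw w : Set G)) ∧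
      fixSpace ρ (Bw w : Set G) = Sw w := by
    intro w
    have hSle : Sw w ≤ fixSpace ρ (Bw w : Set G) := by
      refine sup_le (fixSpace_anti fun b hb => hb.1) (Submodule.span_le.2 ?_)
      rintro _ ⟨a, ha, rfl⟩
      exact mem_fixSpace.2 fun b hb => hb.2 a ha
    -- commutators with one vector separate the cosets of the stabilizer
    let T : Submodule (ZMod p) V := Sw w
    let f : A → T ⧸ F.comap T.subtype := fun a => Submodule.Quotient.mk
      ⟨ρ a w - w, Submodule.mem_sup_right (Submodule.subset_span ⟨a, a.2, rfl⟩)⟩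
    have hfib : ∀ a b : A, f a = f b → (a : G)⁻¹ * b ∈ Bw w := by
      intro a b hab
      refine ⟨A.mul_mem (A.inv_mem a.2) b.2, fun c hc' => ?_⟩
      rw [Submodule.Quotient.eq] at hab
      have h1 : ρ a w - w - (ρ b w - w) ∈ F := hab
      rw [sub_sub_sub_cancel_right] at h1
      have h2 := mem_fixSpace.1 h1
      have h3 : ρ (a : G)⁻¹ (ρ a w - ρ b w) = ρ a w - ρ b w := h2 _ (A.inv_mem a.2)
      set e : G := (a : G)⁻¹ * b with he
      have h4 : w - ρ e w ∈ F := by
        rw [map_sub, ← Module.End.mul_apply, ← Module.End.mul_apply, ← map_mul, ← map_mul,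
          inv_mul_cancel, map_one, Module.End.one_apply] at h3
        rwa [h3]
      have h5 := mem_fixSpace.1 h4 c hc'
      rw [map_sub, ← Module.End.mul_apply, ← map_mul,
        hc c hc' e (A.mul_mem (A.inv_mem a.2) b.2), map_mul, Module.End.mul_apply] at h5
      rw [map_sub]
      exact (sub_eq_sub_iff_sub_eq_sub.1 h5).symm
    have hcard : Nat.card A * Nat.card F ≤ Nat.card (Bw w) * Nat.card T := by
      have h1 : Nat.card A ≤ Nat.card (T ⧸ F.comap T.subtype) * Nat.card (Bw w) := by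
        rw [← Nat.card_prod]
        refine Nat.card_le_card_of_injective (fun a : A =>
          (f a, (⟨((Function.invFun f (f a) : A) : G)⁻¹ * a,
            hfib _ _ (Function.invFun_eq ⟨a, rfl⟩)⟩ : Bw w))) ?_
        intro a b hab
        simp only [Prod.mk.injEq, Subtype.mk.injEq] at hab
        rw [hab.1] at hab
        exact Subtype.ext (mul_left_cancel hab.2)
      have h2 := Submodule.card_eq_card_quotient_mul_card (F.comap T.subtype)
      have h3 : Nat.card (F.comap T.subtype) = Nat.card F :=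
        Nat.card_congr ((Submodule.comapSubtypeEquivOfLe (le_sup_left : F ≤ T)).toEquiv)
      calc Nat.card A * Nat.card F
          ≤ Nat.card (T ⧸ F.comap T.subtype) * Nat.card (Bw w) * Nat.card F :=
            Nat.mul_le_mul_right _ h1
        _ = _ := by rw [h2, h3]; ring
    have hle := Nat.card_mono (Set.toFinite (fixSpace ρ (Bw w : Set G) : Set V)) hSle
    refine ⟨hcard.trans (Nat.mul_le_mul_left _ hle), le_antisymm ?_ hSle⟩
    have h4 : Nat.card (fixSpace ρ (Bw w : Set G)) ≤ Nat.card (Sw w) :=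
      Nat.le_of_mul_le_mul_left ((hA _ (hBA w)).trans hcard) Nat.card_pos
    exact (SetLike.coe_injective (Set.eq_of_subset_of_ncard_le hSle
      (by rwa [← Nat.card_coe_set_eq, ← Nat.card_coe_set_eq]) (Set.toFinite _))).ge
  have hfold : ∀ s : Finset V, M ≤ Nat.card ↥(A ⊓ s.inf Bw) *
        Nat.card (fixSpace ρ ((A ⊓ s.inf Bw : Subgroup G) : Set G)) ∧
      fixSpace ρ ((A ⊓ s.inf Bw : Subgroup G) : Set G) = F ⊔ s.sup Sw := by
    intro s
    induction s using Finset.induction_on with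
    | empty => rw [Finset.inf_empty, inf_top_eq, Finset.sup_empty, sup_bot_eq]; exact ⟨le_rfl, rfl⟩
    | @insert w s hws ih =>
      have h := inf_maximum hA (hBA w) (inf_le_left : A ⊓ s.inf Bw ≤ A) (hone w).1 ih.1
      rw [Finset.inf_insert, Finset.sup_insert, inf_left_comm]
      refine ⟨h.1, h.2.trans ?_⟩
      rw [(hone w).2, ih.2, sup_left_comm]
  obtain ⟨hTM, hT⟩ := hfold Finset.univ
  set T := A ⊓ Finset.univ.inf Bw
  have hquad : ∀ b ∈ T, ∀ a ∈ A, (ρ a - 1) * (ρ b - 1) = 0 := by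
    intro b hb a ha
    have hcomm : Commute (ρ a - 1) (ρ b - 1) := by
      refine (Commute.sub_left ?_ (Commute.one_left _)).sub_right (Commute.one_right _)
      show ρ a * ρ b = ρ b * ρ a
      rw [← map_mul, ← map_mul, hc a ha b hb.1]
    rw [hcomm.eq]
    refine LinearMap.ext fun w => ?_
    have := (Finset.inf_le (f := Bw) (Finset.mem_univ w) hb.2).2 a ha
    simp only [Module.End.mul_apply, LinearMap.sub_apply, Module.End.one_apply,
      LinearMap.zero_apply]
    rw [this, sub_self]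
  refine ⟨T, inf_le_left, hTM, hquad, ?_⟩
  by_contra hcon
  push Not at hcon
  have htriv : ∀ b ∈ T, ρ b = 1 := hcon
  have htop : fixSpace ρ (T : Set G) = ⊤ := eq_top_iff.2 fun v _ =>
    mem_fixSpace.2 fun b hb => by rw [htriv b hb]; rfl
  have hfix : (⊤ : Submodule (ZMod p) V) ≤ F := by
    refine fixed_of_le_sup hc hp ⊤ ?_ fun _ _ _ _ => Submodule.mem_top
    conv_lhs => rw [← htop, hT]
    refine sup_le le_sup_left (Finset.sup_le fun w _ => sup_le le_sup_left ?_)
    refine le_sup_of_le_right (Submodule.span_mono ?_)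
    rintro _ ⟨a, ha, rfl⟩
    exact ⟨a, ha, w, Submodule.mem_top, rfl⟩
  obtain ⟨a, ha, ha1⟩ := hne
  exact ha1 (LinearMap.ext fun v => mem_fixSpace.1 (hfix (Submodule.mem_top (x := v))) a ha)

/-- **Replacement.** A nontrivial best offender contains a nontrivial element whose commutator
space is fixed by the offender. -/
theorem exists_quadratic {A : Subgroup G} (hA : Best ρ A)
    (hc : ∀ a ∈ A, ∀ b ∈ A, a * b = b * a) (hp : ∀ a ∈ A, ∃ k, a ^ p ^ k = 1)
    (hne : ∃ a ∈ A, ρ a ≠ 1) :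
    ∃ b ∈ A, ρ b ≠ 1 ∧ ∀ a ∈ A, (ρ a - 1) * (ρ b - 1) = 0 := by
  obtain ⟨T, hTA, -, hq, b, hb, hb1⟩ := exists_quadratic_offender hA hc hp hne
  exact ⟨b, hTA hb, hb1, hq b hb⟩

end CfsgLib.Offender
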