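import Mathlib
import Cfsg.Prelude.Def_Local
import Cfsg.Agent.Comp.Basic
import Cfsg.Agent.Char.Burnside

/-!
# Algebras with a scalar trace spanned by a quasisimple group in characteristic two
-/

set_option autoImplicit false
set_option linter.style.haveILetI false
set_option linter.unusedSectionVars false

namespace CfsgLib.Offender

open scoped commutatorElement

theorem pow_twelve {R : Type*} [Ring R] [CharP R 2] {k l s : R} (hkl : k * l = 1) (hs : k + l = s)
    (hc : Commute s k) (hss : s * s = 0 ∨ s * s = s) : k ^ 12 = 1 := by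
  have h0 : ∀ a : R, a + a = 0 := CharTwo.add_self_eq_zero
  have h2 : k * k = s * k + 1 := by
    rw [hc.eq, ← hs, mul_add, hkl, add_assoc, h0, add_zero]
  have hsk : s * k * (s * k) = s * s * (k * k) := hc.symm.mul_mul_mul_comm s k
  have h4 : k * k * (k * k) = s * s * (k * k) + 1 := by
    rw [h2, mul_add, add_mul, hsk, one_mul, mul_one, add_assoc, ← add_assoc (s * k), h0, zero_add,
      h2]
  rcases hss with h | h <;> rw [h] at h4
  · rw [zero_mul, zero_add] at h4
    rw [show (12 : ℕ) = 4 * 3 from rfl, pow_mul,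
      show k ^ 4 = k * k * (k * k) by simp [pow_succ, mul_assoc], h4, one_pow]
  · have e : s * (k * k) = s * k + s := by rw [h2, mul_add, ← mul_assoc, h, mul_one]
    have h6 : k * k * (k * k) * (k * k) = 1 := by
      rw [h4, e]
      nth_rw 1 [h2]
      rw [add_mul, add_mul, mul_add, mul_add, hsk, h, e, one_mul, mul_one, mul_one, ← mul_assoc, h]
      calc s * k + s + s * k + (s * k + s) + (s * k + 1)
          = (s * k + s * k) + (s * k + s * k) + (s + s) + 1 := by abel
        _ = 1 := by simp [h0]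
    rw [show (12 : ℕ) = 6 * 2 from rfl, pow_mul,
      show k ^ 6 = k * k * (k * k) * (k * k) by simp [pow_succ, mul_assoc], h6, one_pow]

theorem perfect_le {G : Type*} [Group G] [Group.IsPerfect G] (U : Subgroup G)
    (h : ∀ g m : G, g * m * g⁻¹ * m⁻¹ ∈ U) : ∀ x, x ∈ U := by
  intro x
  have h1 : commutator G ≤ U := by
    rw [_root_.commutator_def, Subgroup.commutator_le]
    exact fun g _ m _ => by rw [commutatorElement_def]; exact h g m
  exact h1 ((Group.IsPerfect.commutator_eq_top (G := G)).symm ▸ Subgroup.mem_top x)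

theorem eq_one_of_pow_twelve {G : Type*} [Group G] [Finite G] [Group.IsPerfect G]
    (h : ∀ g : G, g ^ 12 = 1) (g : G) : g = 1 := by
  by_contra hg
  haveI : Nontrivial G := ⟨g, 1, hg⟩
  refine Group.IsPerfect.not_isSolvable G ?_
  obtain ⟨a, m, hm, ha⟩ := Nat.exists_eq_pow_mul_and_not_dvd (Nat.card_pos (α := G)).ne' 2 (by norm_num)
  refine CfsgLib.Char.isSolvable_of_card_eq 2 3 a m.primeFactorsList.length Nat.prime_two
    Nat.prime_three ?_
  rw [ha]
  congr 1
  refine Nat.eq_prime_pow_of_unique_prime_dvd (fun e => hm (e ▸ dvd_zero 2)) fun {q} hq hqm => ?_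
  haveI := Fact.mk hq
  obtain ⟨x, hx⟩ := exists_prime_orderOf_dvd_card' (G := G) q (hqm.trans ⟨2 ^ a, by rw [ha, mul_comm]⟩)
  have h12 : q ∣ 2 ^ 2 * 3 := hx ▸ orderOf_dvd_of_pow_eq_one (h x)
  rcases hq.dvd_mul.1 h12 with h2 | h3
  · exact absurd ((Nat.prime_dvd_prime_iff_eq hq Nat.prime_two).1 (hq.dvd_of_dvd_pow h2) ▸ hqm) hm
  · exact (Nat.prime_dvd_prime_iff_eq hq Nat.prime_three).1 h3

/-- A representation of a perfect group in which twelfth powers are trivial is trivial. -/
theorem map_eq_one_of_pow_twelve {G M : Type*} [Group G] [Finite G] [Group.IsPerfect G] [Monoid M]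
    (γ : G →* M) (h : ∀ g, γ g ^ 12 = 1) (g : G) : γ g = 1 := by
  haveI : Group.IsPerfect γ.toHomUnits.range :=
    Group.IsPerfect.ofSurjective (f := γ.toHomUnits.rangeRestrict)
      γ.toHomUnits.rangeRestrict_surjective
  haveI : Finite γ.toHomUnits.range :=
    Finite.of_surjective _ γ.toHomUnits.rangeRestrict_surjective
  have h1 : ∀ x : γ.toHomUnits.range, x ^ 12 = 1 := by
    rintro ⟨_, y, rfl⟩
    refine Subtype.ext (Units.ext ?_)
    simpa using h y
  have h2 := eq_one_of_pow_twelve h1 ⟨γ.toHomUnits g, g, rfl⟩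
  simpa using congrArg (fun x : γ.toHomUnits.range => ((x : Mˣ) : M)) h2

/-- A homomorphism that moves a perfect group only inside its centre is the identity. -/
theorem eq_self_of_central {G : Type*} [Group G] [Group.IsPerfect G] (ψ : G →* G)
    (h : ∀ g, ψ g * g⁻¹ ∈ Subgroup.center G) (g : G) : ψ g = g := by
  refine perfect_le (ψ.eqLocus (MonoidHom.id G)) (fun a b => ?_) g
  show ψ (a * b * a⁻¹ * b⁻¹) = a * b * a⁻¹ * b⁻¹
  have ha : ψ a = ψ a * a⁻¹ * a := by group
  have hb : ψ b = ψ b * b⁻¹ * b := by group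
  have za := Subgroup.mem_center_iff.1 (h a)
  have zb := Subgroup.mem_center_iff.1 (h b)
  rw [map_mul, map_mul, map_mul, map_inv, map_inv, ha, hb]
  generalize ψ a * a⁻¹ = y at za ⊢
  generalize ψ b * b⁻¹ = z at zb ⊢
  calc y * a * (z * b) * (y * a)⁻¹ * (z * b)⁻¹
      = y * (a * z) * b * a⁻¹ * y⁻¹ * b⁻¹ * z⁻¹ := by group
    _ = z * (y * (a * b * a⁻¹)) * y⁻¹ * b⁻¹ * z⁻¹ := by rw [zb a, ← mul_assoc y, zb y]; group
    _ = z * (a * b * a⁻¹ * b⁻¹) * z⁻¹ := by rw [← za (a * b * a⁻¹)]; group
    _ = a * b * a⁻¹ * b⁻¹ := by rw [← zb]; group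

variable {F R G : Type*} [Field F] [CharP F 2] [Ring R] [Algebra F R] [Nontrivial R] [Finite R]
  [Group G] [Finite G]

/-- An algebra spanned by a quasisimple group, with an anti-automorphism inverting the group and
with scalar traces. -/
structure Involutive (γ : G →* R) (S : R →ₗ[F] R) (τ : R →ₗ[F] F) : Prop where
  quasi : Cfsg.IsQuasisimple G
  span : ∀ x : R, x ∈ Submodule.span F (Set.range γ)
  nontriv : ∃ g, γ g ≠ 1
  mul : ∀ x y, S (x * y) = S y * S x
  gamma : ∀ g, S (γ g) = γ g⁻¹
  trace : ∀ x, x + S x = algebraMap F R (τ x)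

/-- An automorphism coming from the group, acting quadratically also together with `S`. -/
structure Move (γ : G →* R) (S σ : R →ₗ[F] R) : Prop where
  mul : ∀ x y, σ (x * y) = σ x * σ y
  twist : ∃ ψ : G →* G, ∀ g, σ (γ g) = γ (ψ g)
  quad : ∀ x, σ (σ x) = x
  fixS : ∀ x, S (σ x + x) = σ x + x

variable {γ : G →* R} {S : R →ₗ[F] R} {τ : R →ₗ[F] F}

namespace Involutive

variable (hI : Involutive γ S τ)
include hI

theorem charTwo : CharP R 2 := charP_of_injective_algebraMap' F (A := R) 2

theorem addSelf (x : R) : x + x = 0 := by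
  haveI := hI.charTwo
  exact CharTwo.add_self_eq_zero x

theorem S_one : S 1 = 1 := by simpa using hI.gamma 1

theorem S_algebraMap (c : F) : S (algebraMap F R c) = algebraMap F R c := by
  rw [Algebra.algebraMap_eq_smul_one, map_smul, hI.S_one]

theorem tau_algebraMap (c : F) : τ (algebraMap F R c) = 0 := by
  apply (algebraMap F R).injective
  rw [← hI.trace, hI.S_algebraMap, hI.addSelf, map_zero]

theorem S_eq (x : R) : S x = x + algebraMap F R (τ x) := by
  rw [← hI.trace, ← add_assoc, hI.addSelf, zero_add]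

theorem tau_eq_zero {x : R} : τ x = 0 ↔ S x = x := by
  rw [hI.S_eq x, add_eq_left]
  exact (map_eq_zero (algebraMap F R)).symm

theorem S_S (x : R) : S (S x) = x := by
  rw [hI.S_eq x, map_add, hI.S_algebraMap, hI.S_eq x, add_assoc, hI.addSelf, add_zero]

theorem exists_one : ∃ u, τ u = 1 := by
  haveI := hI.charTwo
  haveI := hI.quasi.1
  by_contra h
  push Not at h
  obtain ⟨g, hg⟩ := hI.nontriv
  refine hg (map_eq_one_of_pow_twelve γ (fun m => ?_) g)
  by_cases h0 : τ (γ m) = 0
  · refine pow_twelve (l := γ m⁻¹) (s := 0) (by rw [← map_mul, mul_inv_cancel, map_one]) ?_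
      (Commute.zero_left _) (Or.inl (mul_zero 0))
    rw [← hI.gamma, hI.trace, h0, map_zero]
  · exact absurd (by rw [map_smul, smul_eq_mul, inv_mul_cancel₀ h0]) (h ((τ (γ m))⁻¹ • γ m))

theorem exists_scalar : ∃ c : F, c ≠ 0 ∧ c ≠ 1 := by
  haveI := hI.charTwo
  haveI := hI.quasi.1
  by_contra h
  push Not at h
  obtain ⟨g, hg⟩ := hI.nontriv
  refine hg (map_eq_one_of_pow_twelve γ (fun m => ?_) g)
  refine pow_twelve (l := γ m⁻¹) (s := algebraMap F R (τ (γ m)))
    (by rw [← map_mul, mul_inv_cancel, map_one]) ?_ (Algebra.commutes _ _) (Or.inr ?_)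
  · rw [← hI.gamma, hI.trace]
  · by_cases h0 : τ (γ m) = 0
    · rw [h0, map_zero, mul_zero]
    · rw [h _ h0, map_one, mul_one]

section WithU

variable {u : R} (hu : τ u = 1)
include hu

theorem S_u : S u = u + 1 := by rw [hI.S_eq, hu, map_one]

theorem S_mul_u {h : R} (hh : S h = h) : S (u * h) = h * u + h := by
  rw [hI.mul, hh, hI.S_u hu, mul_add, mul_one]

theorem bracket {h : R} (hh : S h = h) :
    u * h + h * u + h = algebraMap F R (τ (u * h)) := by
  rw [← hI.trace, hI.S_mul_u hu hh, add_assoc]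

theorem scalar_of_commute {h : R} (hh : S h = h) (hc : u * h = h * u) :
    h = algebraMap F R (τ (u * h)) := by
  rw [← hI.bracket hu hh, hc, hI.addSelf, zero_add]

theorem bracket_shift {h : R} (hh : S h = h) :
    u * (h + algebraMap F R (τ (u * h))) + (h + algebraMap F R (τ (u * h))) * u =
      h + algebraMap F R (τ (u * h)) := by
  rw [mul_add, add_mul, ← Algebra.commutes (τ (u * h)) u, ← hI.bracket hu hh]
  simp only [add_mul, mul_add]
  calc _ = (u * h + h * u) + ((u * h * u + u * h * u) + (h * u * u + h * u * u) +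
        (h * u + h * u)) := by abel
    _ = _ := by
      simp only [hI.addSelf, add_zero]
      rw [show h + (u * h + h * u + h) = u * h + h * u + (h + h) by abel, hI.addSelf, add_zero]

theorem tau_u_mul_of_bracket {h : R} (hh : S h = h) (hb : u * h + h * u = h) : τ (u * h) = 0 := by
  apply (algebraMap F R).injective
  rw [← hI.bracket hu hh, hb, hI.addSelf, map_zero]

theorem mul_commute_u {a b : R} (ha : u * a + a * u = a) (hb : u * b + b * u = b) :
    u * (a * b) = a * b * u := by
  have e1 : u * a = a * u + a := by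
    conv_rhs => arg 2; rw [← ha]
    rw [add_comm (u * a), ← add_assoc, hI.addSelf, zero_add]
  have e2 : u * b = b * u + b := by
    conv_rhs => arg 2; rw [← hb]
    rw [add_comm (u * b), ← add_assoc, hI.addSelf, zero_add]
  rw [← mul_assoc, e1, add_mul, mul_assoc a u, e2, mul_add, add_assoc, hI.addSelf, add_zero,
    mul_assoc]

/-- The symmetric elements square to scalars. -/
theorem sq_scalar {h : R} (hh : S h = h) : ∃ c : F, h * h = algebraMap F R c := by
  set d := τ (u * h)
  set h0 := h + algebraMap F R d with hh0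
  have hb : u * h0 + h0 * u = h0 := hI.bracket_shift hu hh
  have hs : S h0 = h0 := by rw [hh0, map_add, hh, hI.S_algebraMap]
  obtain ⟨c, hc⟩ : ∃ c : F, h0 * h0 = algebraMap F R c :=
    ⟨_, hI.scalar_of_commute hu (by rw [hI.mul, hs]) (hI.mul_commute_u hu hb hb)⟩
  refine ⟨c + d * d, ?_⟩
  have e : h = h0 + algebraMap F R d := by rw [hh0, add_assoc, hI.addSelf, add_zero]
  calc h * h = (h0 + algebraMap F R d) * (h0 + algebraMap F R d) := by rw [← e]
    _ = h0 * h0 + algebraMap F R d * algebraMap F R d +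
        (h0 * algebraMap F R d + algebraMap F R d * h0) := by
      simp only [add_mul, mul_add]; abel
    _ = _ := by rw [Algebra.commutes d h0, hI.addSelf, add_zero, hc, map_add, map_mul]

/-- Some product of symmetric elements has non-zero trace. -/
theorem exists_pair : ∃ h g, S h = h ∧ S g = g ∧ τ (h * g) ≠ 0 := by
  by_contra hcon
  push Not at hcon
  haveI := hI.quasi.1
  have hcomm : ∀ h g, S h = h → S g = g → h * g = g * h := fun h g hh hg => by
    rw [← (hI.tau_eq_zero.1 (hcon h g hh hg)), hI.mul, hh, hg]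
  let N : Submodule F R :=
    { carrier := {x | S x = x ∧ u * x + x * u = x}
      zero_mem' := ⟨map_zero S, by simp⟩
      add_mem' := fun {x y} hx hy => ⟨by rw [map_add, hx.1, hy.1], by
        rw [mul_add, add_mul]
        calc u * x + u * y + (x * u + y * u) = (u * x + x * u) + (u * y + y * u) := by abel
          _ = _ := by rw [hx.2, hy.2]⟩
      smul_mem' := fun c x hx => ⟨by rw [map_smul, hx.1], by
        rw [mul_smul_comm, smul_mul_assoc, ← smul_add, hx.2]⟩ }
  have hun : ∀ x ∈ N, u * x ∈ N := fun x hx => by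
    refine ⟨?_, ?_⟩
    · rw [hI.S_mul_u hu hx.1]
      calc x * u + x = x * u + (u * x + x * u) := by rw [hx.2]
        _ = u * x + (x * u + x * u) := by abel
        _ = _ := by rw [hI.addSelf, add_zero]
    · rw [mul_assoc u x u, ← mul_add, hx.2]
  have hnu : ∀ x ∈ N, x * u ∈ N := fun x hx => by
    have e : x * u = u * x + x := by
      calc x * u = u * x + (u * x + x * u) := by rw [← add_assoc, hI.addSelf, zero_add]
        _ = _ := by rw [hx.2]
    rw [e]; exact N.add_mem (hun x hx) hx
  have hsq : ∀ x ∈ N, x * x = 0 := fun x hx => by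
    have e : x * x = algebraMap F R (τ (u * (x * x))) :=
      hI.scalar_of_commute hu (by rw [hI.mul, hx.1]) (hI.mul_commute_u hu hx.2 hx.2)
    rw [e]
    have h1 : τ (u * (x * x)) = 0 := by
      rw [← mul_assoc]; exact hcon _ _ (hun x hx).1 hx.1
    rw [h1, map_zero]
  have hNN : ∀ x ∈ N, ∀ y ∈ N, x * y = 0 := fun x hx y hy => by
    have e := hI.scalar_of_commute hu (h := x * y)
      (by rw [hI.mul, hx.1, hy.1, hcomm y x hy.1 hx.1]) (hI.mul_commute_u hu hx.2 hy.2)
    have h1 : (x * y) * (x * y) = 0 := by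
      rw [mul_assoc, ← mul_assoc y x, hcomm y x hy.1 hx.1, mul_assoc x y y, hsq y hy, mul_zero,
        mul_zero]
    rw [e, ← map_mul] at h1
    rw [e, mul_self_eq_zero.1 ((map_eq_zero (algebraMap F R)).1 h1), map_zero]
  have hdec : ∀ x, ∃ a b : F, ∃ n ∈ N, x = algebraMap F R a + b • u + n := fun x => by
    set h := x + τ x • u with hh
    have hs : S h = h := hI.tau_eq_zero.1 (by
      rw [hh, map_add, map_smul, hu, smul_eq_mul, mul_one, CharTwo.add_self_eq_zero])
    refine ⟨τ (u * h), τ x, h + algebraMap F R (τ (u * h)),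
      ⟨by rw [map_add, hs, hI.S_algebraMap], hI.bracket_shift hu hs⟩, ?_⟩
    rw [hh]
    calc x = x + ((τ x • u + τ x • u) + (algebraMap F R (τ (u * h)) + algebraMap F R (τ (u * h)))) := by
          simp [hI.addSelf]
      _ = _ := by rw [hh]; abel
  have hmul : ∀ x, ∀ n ∈ N, x * n ∈ N ∧ n * x ∈ N := fun x n hn => by
    obtain ⟨a, b, n', hn', rfl⟩ := hdec x
    constructor
    · rw [add_mul, add_mul, hNN n' hn' n hn, add_zero, ← Algebra.smul_def, smul_mul_assoc]
      exact N.add_mem (N.smul_mem a hn) (N.smul_mem b (hun n hn))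
    · rw [mul_add, mul_add, hNN n hn n' hn', add_zero, ← Algebra.commutes, ← Algebra.smul_def,
        mul_smul_comm]
      exact N.add_mem (N.smul_mem a hn) (N.smul_mem b (hnu n hn))
  have hbu : ∀ y, u * y + y * u ∈ N := fun y => by
    obtain ⟨c, d, m, hm, rfl⟩ := hdec y
    have e : u * (algebraMap F R c + d • u + m) + (algebraMap F R c + d • u + m) * u =
        u * m + m * u := by
      simp only [mul_add, add_mul, mul_smul_comm, smul_mul_assoc, Algebra.commutes c u]
      calc _ = (u * algebraMap F R c + u * algebraMap F R c) + (d • (u * u) + d • (u * u)) +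
            (u * m + m * u) := by abel
        _ = _ := by simp [hI.addSelf]
    rw [e, hm.2]; exact hm
  have hbr : ∀ x y, x * y + y * x ∈ N := fun x y => by
    obtain ⟨a, b, n, hn, rfl⟩ := hdec x
    have e : (algebraMap F R a + b • u + n) * y + y * (algebraMap F R a + b • u + n) =
        b • (u * y + y * u) + (n * y + y * n) := by
      simp only [mul_add, add_mul, mul_smul_comm, smul_mul_assoc, Algebra.commutes a y, smul_add]
      calc _ = (y * algebraMap F R a + y * algebraMap F R a) + (b • (u * y) + b • (y * u)) +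
            (n * y + y * n) := by abel
        _ = _ := by simp [hI.addSelf]
    rw [e]
    exact N.add_mem (N.smul_mem b (hbu y)) (N.add_mem (hmul y n hn).2 (hmul y n hn).1)
  have hgi : ∀ g, γ g * γ g⁻¹ = 1 := fun g => by rw [← map_mul, mul_inv_cancel, map_one]
  let U : Subgroup G :=
    { carrier := {g | γ g + 1 ∈ N}
      one_mem' := by
        show γ 1 + 1 ∈ N
        rw [map_one, hI.addSelf]; exact N.zero_mem
      mul_mem' := fun {g m} hg hm => by
        show γ (g * m) + 1 ∈ N
        have e : γ (g * m) + 1 = (γ g + 1) * γ m + (γ m + 1) := by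
          rw [map_mul, add_mul, one_mul, add_assoc, ← add_assoc (γ m), hI.addSelf, zero_add]
        rw [e]; exact N.add_mem (hmul _ _ hg).2 hm
      inv_mem' := fun {g} hg => by
        show γ g⁻¹ + 1 ∈ N
        have e : γ g⁻¹ + 1 = (γ g + 1) * γ g⁻¹ := by rw [add_mul, one_mul, hgi, add_comm]
        rw [e]; exact (hmul _ _ hg).2 }
  have hU : ∀ g, γ g + 1 ∈ N := perfect_le U fun g m => by
    show γ (g * m * g⁻¹ * m⁻¹) + 1 ∈ N
    have e : γ (g * m * g⁻¹ * m⁻¹) + 1 = (γ g * γ m + γ m * γ g) * γ g⁻¹ * γ m⁻¹ := by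
      rw [map_mul, map_mul, map_mul, add_mul, add_mul, mul_assoc (γ m) (γ g), hgi, mul_one, hgi]
    rw [e]; exact (hmul _ _ (hmul _ _ (hbr _ _)).2).2
  obtain ⟨g, hg⟩ := hI.nontriv
  refine hg (perfect_le γ.ker (fun g m => ?_) g)
  rw [MonoidHom.mem_ker, map_mul, map_mul, map_mul]
  have e : γ g * γ m = γ m * γ g := by
    have h1 := hNN _ (hU g) _ (hU m)
    have h2 := hNN _ (hU m) _ (hU g)
    rw [add_mul, mul_add, mul_one, one_mul] at h1 h2
    calc γ g * γ m = γ g * γ m + (γ m * γ g + γ m + (γ g + 1)) := by rw [h2, add_zero]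
      _ = γ m * γ g + (γ g * γ m + γ g + (γ m + 1)) := by abel
      _ = γ m * γ g := by rw [h1, add_zero]
  rw [e, mul_assoc (γ m) (γ g), hgi, mul_one, hgi]

end WithU

theorem move_algebraMap {σ : R →ₗ[F] R} (hσ : Move γ S σ) (c : F) :
    σ (algebraMap F R c) = algebraMap F R c := by
  obtain ⟨ψ, hψ⟩ := hσ.twist
  rw [Algebra.algebraMap_eq_smul_one, map_smul, ← map_one γ, hψ, map_one ψ]

theorem tau_move {σ : R →ₗ[F] R} (hσ : Move γ S σ) (x : R) : τ (σ x + x) = 0 :=
  hI.tau_eq_zero.2 (hσ.fixS x)

/-- A move fixing the symmetric elements is trivial. -/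
theorem eq_id_of_fixed {σ : R →ₗ[F] R} (hσ : Move γ S σ) (h : ∀ x, S x = x → σ x = x) (x : R) :
    σ x = x := by
  obtain ⟨u, hu⟩ := hI.exists_one
  obtain ⟨a, b, ha, hb, hab⟩ := hI.exists_pair hu
  set y := (τ (a * b))⁻¹ • (a * b) with hy
  have hy1 : τ y = 1 := by rw [hy, map_smul, smul_eq_mul, inv_mul_cancel₀ hab]
  have hy2 : σ y = y := by rw [hy, map_smul, hσ.mul, h a ha, h b hb]
  have h1 : σ (x + τ x • y) = x + τ x • y := h _ (hI.tau_eq_zero.1 (by
    rw [map_add, map_smul, hy1, smul_eq_mul, mul_one, CharTwo.add_self_eq_zero]))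
  rw [map_add, map_smul, hy2] at h1
  exact add_right_cancel h1

/-- A non-trivial move shifts some element by one, and that element has trace one. -/
theorem exists_shift {σ : R →ₗ[F] R} (hσ : Move γ S σ) (hne : ∃ x, σ x ≠ x) :
    ∃ u, σ u = u + 1 ∧ τ u = 1 := by
  haveI := hI.quasi.1
  obtain ⟨u₀, hu₀⟩ := hI.exists_one
  obtain ⟨y, hy⟩ : ∃ y, σ y = y + 1 := by
    by_contra hcon
    push Not at hcon
    let I : Set R := {n | ∃ x, n = σ x + x}
    have hS : ∀ n ∈ I, S n = n := by rintro _ ⟨x, rfl⟩; exact hσ.fixS x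
    have hfix : ∀ n ∈ I, σ n = n := by
      rintro _ ⟨x, rfl⟩; rw [map_add, hσ.quad, add_comm]
    have hsq : ∀ n ∈ I, n * n = 0 := by
      intro n hn
      obtain ⟨c, hc⟩ := hI.sq_scalar hu₀ (hS n hn)
      by_contra h0
      have hc0 : c ≠ 0 := fun e => h0 (by rw [hc, e, map_zero])
      have hσn := hfix n hn
      obtain ⟨x, hx⟩ := hn
      refine hcon (c⁻¹ • (x * n)) ?_
      have e : σ x = x + n := by rw [hx, add_comm (σ x), ← add_assoc, hI.addSelf, zero_add]
      rw [map_smul, hσ.mul, hσn, e, add_mul, hc, smul_add, Algebra.algebraMap_eq_smul_one,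
        smul_smul, inv_mul_cancel₀ hc0, one_smul]
    have hmem : ∀ n ∈ I, ∀ m ∈ I, n * m ∈ I := by
      rintro n ⟨x, rfl⟩ m hm
      exact ⟨x * m, by rw [hσ.mul, hfix m hm, add_mul]⟩
    have hcomm : ∀ n ∈ I, ∀ m ∈ I, n * m = m * n := fun n hn m hm => by
      rw [← hS _ (hmem n hn m hm), hI.mul, hS n hn, hS m hm]
    -- an element of `I` annihilating `I`
    obtain ⟨x₀, hx₀⟩ := hne
    have hI0 : ({n ∈ I | n ≠ 0} : Set R).Nonempty := ⟨σ x₀ + x₀, ⟨x₀, rfl⟩, fun e => hx₀ (by
      calc σ x₀ = (σ x₀ + x₀) + x₀ := by rw [add_assoc, hI.addSelf, add_zero]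
        _ = x₀ := by rw [e, zero_add])⟩
    obtain ⟨n₀, ⟨hn₀, hn₀0⟩, hmin⟩ := Set.exists_min_image {n ∈ I | n ≠ 0}
      (fun n => ((fun m => n * m) '' I).ncard) (Set.toFinite _) hI0
    have hann : ∀ m ∈ I, n₀ * m = 0 := by
      intro m hm
      by_contra h0
      have hle := hmin (n₀ * m) ⟨hmem _ hn₀ _ hm, h0⟩
      have hsub : (fun k => n₀ * m * k) '' I ⊆ (fun k => n₀ * k) '' I := by
        rintro _ ⟨k, hk, rfl⟩; exact ⟨m * k, hmem m hm k hk, (mul_assoc _ _ _).symm⟩
      have heq := Set.eq_of_subset_of_ncard_le hsub hle (Set.toFinite _)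
      obtain ⟨k, hk, hk'⟩ : n₀ * m ∈ (fun k => n₀ * m * k) '' I := heq ▸ ⟨m, hm, rfl⟩
      have hk' : n₀ * m * k = n₀ * m := hk'
      apply h0
      rw [← hk', ← hk', mul_assoc (n₀ * m) k k, hsq k hk, mul_zero]
    let J : Submodule F R := Submodule.span F {z | ∃ x y, z = (σ x + x) * y}
    have hJr : ∀ z ∈ J, ∀ w, z * w ∈ J := fun z hz w => by
      induction hz using Submodule.span_induction with
      | mem a ha =>
        obtain ⟨x, y, rfl⟩ := ha
        exact Submodule.subset_span ⟨x, y * w, mul_assoc _ _ _⟩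
      | zero => rw [zero_mul]; exact J.zero_mem
      | add a b _ _ ha hb => rw [add_mul]; exact J.add_mem ha hb
      | smul c a _ ha => rw [smul_mul_assoc]; exact J.smul_mem c ha
    have hJl : ∀ w, ∀ z ∈ J, w * z ∈ J := fun w z hz => by
      induction hz using Submodule.span_induction with
      | mem a ha =>
        obtain ⟨x, y, rfl⟩ := ha
        have e : w * ((σ x + x) * y) =
            (σ (σ w * x) + σ w * x) * y + (σ (σ w) + σ w) * (x * y) := by
          rw [hσ.mul, hσ.quad, ← mul_assoc (w + σ w), ← add_mul, ← mul_assoc]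
          congr 1
          rw [add_mul, mul_add]
          calc w * σ x + w * x = w * σ x + w * x + (σ w * x + σ w * x) := by
                rw [hI.addSelf, add_zero]
            _ = _ := by abel
        rw [e]
        exact J.add_mem (Submodule.subset_span ⟨_, _, rfl⟩) (Submodule.subset_span ⟨_, _, rfl⟩)
      | zero => rw [mul_zero]; exact J.zero_mem
      | add a b _ _ ha hb => rw [mul_add]; exact J.add_mem ha hb
      | smul c a _ ha => rw [mul_smul_comm]; exact J.smul_mem c ha
    have hone : (1 : R) ∉ J := fun h1 => by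
      have : ∀ z ∈ J, n₀ * z = 0 := fun z hz => by
        induction hz using Submodule.span_induction with
        | mem a ha =>
          obtain ⟨x, y, rfl⟩ := ha
          rw [← mul_assoc, hann _ ⟨x, rfl⟩, zero_mul]
        | zero => rw [mul_zero]
        | add a b _ _ ha hb => rw [mul_add, ha, hb, add_zero]
        | smul c a _ ha => rw [mul_smul_comm, ha, smul_zero]
      exact hn₀0 (by simpa using this 1 h1)
    have hgi : ∀ g, γ g * γ g⁻¹ = 1 := fun g => by rw [← map_mul, mul_inv_cancel, map_one]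
    let U : Subgroup G :=
      { carrier := {g | γ g + 1 ∈ J}
        one_mem' := by
          show γ 1 + 1 ∈ J
          rw [map_one, hI.addSelf]; exact J.zero_mem
        mul_mem' := fun {g m} hg hm => by
          show γ (g * m) + 1 ∈ J
          have e : γ (g * m) + 1 = (γ g + 1) * γ m + (γ m + 1) := by
            rw [map_mul, add_mul, one_mul, add_assoc, ← add_assoc (γ m), hI.addSelf, zero_add]
          rw [e]; exact J.add_mem (hJr _ hg _) hm
        inv_mem' := fun {g} hg => by
          show γ g⁻¹ + 1 ∈ J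
          have e : γ g⁻¹ + 1 = (γ g + 1) * γ g⁻¹ := by rw [add_mul, one_mul, hgi, add_comm]
          rw [e]; exact hJr _ hg _ }
    haveI : U.Normal := ⟨fun n hn g => by
      show γ (g * n * g⁻¹) + 1 ∈ J
      have e : γ (g * n * g⁻¹) + 1 = γ g * (γ n + 1) * γ g⁻¹ := by
        rw [map_mul, map_mul, mul_add, add_mul, mul_one, hgi]
      rw [e]; exact hJr _ (hJl _ _ hn) _⟩
    rcases CfsgLib.Comp.quasisimple_normal hI.quasi (inferInstance : U.Normal) with hU | hU
    · haveI := hI.charTwo
      obtain ⟨g, hg⟩ := hI.nontriv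
      refine hg (map_eq_one_of_pow_twelve γ (fun m => ?_) g)
      refine pow_twelve (l := γ m⁻¹) (s := 0) (hgi m) ?_ (Commute.zero_left _) (Or.inl (mul_zero 0))
      by_contra h0
      have hm : γ m + γ m⁻¹ ∈ J := by
        have e : γ m + γ m⁻¹ = (γ m + 1) + (γ m⁻¹ + 1) := by
          calc γ m + γ m⁻¹ = γ m + γ m⁻¹ + ((1 : R) + 1) := by rw [hI.addSelf, add_zero]
            _ = _ := by abel
        rw [e]
        exact J.add_mem (show γ m + 1 ∈ J from (hU ▸ Subgroup.mem_top m : m ∈ U))
          (show γ m⁻¹ + 1 ∈ J from (hU ▸ Subgroup.mem_top m⁻¹ : m⁻¹ ∈ U))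
      rw [← hI.gamma, hI.trace] at hm h0
      have hc : τ (γ m) ≠ 0 := fun e => h0 (by rw [e, map_zero])
      have h1 := J.smul_mem (τ (γ m))⁻¹ hm
      rw [Algebra.algebraMap_eq_smul_one, smul_smul, inv_mul_cancel₀ hc, one_smul] at h1
      exact hone h1
    · obtain ⟨ψ, hψ⟩ := hσ.twist
      have hψid : ∀ g, ψ g = g := eq_self_of_central ψ fun g => hU (by
        show γ (ψ g * g⁻¹) + 1 ∈ J
        have e : γ (ψ g * g⁻¹) + 1 = (σ (γ g) + γ g) * γ g⁻¹ := by
          rw [map_mul, ← hψ, add_mul, hgi]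
        rw [e]; exact Submodule.subset_span ⟨_, _, rfl⟩)
      refine hx₀ ?_
      have : Submodule.span F (Set.range γ) ≤ LinearMap.eqLocus σ LinearMap.id :=
        Submodule.span_le.2 (by rintro _ ⟨g, rfl⟩; simp [hψ, hψid])
      exact this (hI.span x₀)
  refine ⟨y, hy, ?_⟩
  have hSy : S y = y + algebraMap F R (τ y) := hI.S_eq y
  have hyy : σ (y * y) = y * y + 1 := by
    rw [hσ.mul, hy, add_mul, mul_add, one_mul, mul_one, add_assoc, ← add_assoc y, hI.addSelf,
      zero_add]
  by_cases hc : τ y = 0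
  · obtain ⟨c, hc'⟩ := hI.sq_scalar hu₀ (hI.tau_eq_zero.1 hc)
    rw [hc', hI.move_algebraMap hσ] at hyy
    exact absurd (add_eq_left.1 hyy.symm) one_ne_zero
  · set u := (τ y)⁻¹ • y with hu
    have hu1 : τ u = 1 := by rw [hu, map_smul, smul_eq_mul, inv_mul_cancel₀ hc]
    set w := y * y + τ y • y with hw
    have hwS : S w = w := by
      rw [hw, map_add, map_smul, hI.mul, hSy, add_mul, mul_add, mul_add, Algebra.commutes (τ y) y,
        smul_add]
      simp only [← Algebra.commutes (τ y) y, Algebra.algebraMap_eq_smul_one, smul_mul_assoc,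
        one_mul, mul_one, mul_smul_comm, smul_smul]
      calc _ = y * y + τ y • y + ((τ y • y + τ y • y) + ((τ y * τ y) • (1 : R) + (τ y * τ y) • 1)) := by
            abel
        _ = _ := by simp [hI.addSelf]
    have hwu : u * w = w * u := by
      rw [hu, hw, smul_mul_assoc, mul_smul_comm, mul_add, add_mul, mul_smul_comm, smul_mul_assoc,
        mul_assoc]
    have h1 : σ w = w := by rw [hI.scalar_of_commute hu1 hwS hwu, hI.move_algebraMap hσ]
    rw [hw, map_add, map_smul, hyy, hy, smul_add, ← Algebra.algebraMap_eq_smul_one] at h1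
    have h2 : (1 : R) + algebraMap F R (τ y) = 0 := by
      rw [← sub_eq_zero] at h1
      rw [← h1]; abel
    rw [← map_one (algebraMap F R), ← map_add, map_eq_zero, CharTwo.add_eq_zero] at h2
    exact h2.symm

/-- The fixed points of a non-trivial move have index at least `|F|²`. -/
theorem card_fix [Finite F] {σ : R →ₗ[F] R} (hσ : Move γ S σ) {u : R} (hσu : σ u = u + 1)
    (hu : τ u = 1) :
    Nat.card F * Nat.card F * Nat.card {x : R // σ x = x} ≤ Nat.card R := by
  obtain ⟨h, hh, hne⟩ : ∃ h, S h = h ∧ σ h ≠ h := by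
    by_contra hcon
    push Not at hcon
    exact one_ne_zero (add_eq_left.1 ((hσu.symm.trans (hI.eq_id_of_fixed hσ hcon u))))
  set h0 := h + algebraMap F R (τ (u * h))
  have hb : u * h0 + h0 * u = h0 := hI.bracket_shift hu hh
  set w := σ h0 + h0 with hw
  have hw0 : w ≠ 0 := by
    intro e
    apply hne
    rw [hw, map_add, hI.move_algebraMap hσ] at e
    calc σ h = σ h + algebraMap F R (τ (u * h)) + (h + algebraMap F R (τ (u * h))) + h := by
          calc σ h = σ h + ((algebraMap F R (τ (u * h)) + algebraMap F R (τ (u * h))) + (h + h)) := by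
                simp [hI.addSelf]
            _ = _ := by abel
      _ = h := by rw [e, zero_add]
  have hwb : u * w + w * u = w := by
    have e := congrArg σ hb
    rw [map_add, hσ.mul, hσ.mul, hσu, add_mul, mul_add, one_mul, mul_one] at e
    have e' : u * σ h0 + σ h0 * u = σ h0 := by
      calc u * σ h0 + σ h0 * u = u * σ h0 + σ h0 * u + (σ h0 + σ h0) := by
            rw [hI.addSelf, add_zero]
        _ = u * σ h0 + σ h0 + (σ h0 * u + σ h0) := by abel
        _ = _ := e
    rw [hw, mul_add, add_mul]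
    calc _ = (u * σ h0 + σ h0 * u) + (u * h0 + h0 * u) := by abel
      _ = _ := by rw [e', hb]
  rw [← Nat.card_prod, ← Nat.card_prod]
  refine Nat.card_le_card_of_injective (fun x => x.1.1 • u + x.1.2 • h0 + (x.2 : R)) ?_
  rintro ⟨⟨a, b⟩, x⟩ ⟨⟨a', b'⟩, x'⟩ e
  have e0 : a • u + b • h0 + (x : R) = a' • u + b' • h0 + (x' : R) := e
  have e1 := congrArg (fun z => σ z + z) e0
  have key : ∀ (a b : F) (x : {x : R // σ x = x}),
      σ (a • u + b • h0 + (x : R)) + (a • u + b • h0 + (x : R)) = algebraMap F R a + b • w := by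
    intro a b x
    clear_value h0
    rw [map_add, map_add, map_smul, map_smul, hσu, x.2, hw, smul_add, smul_add]
    calc _ = a • (1 : R) + (b • σ h0 + b • h0) + ((a • u + a • u) + ((x : R) + x)) := by abel
      _ = _ := by simp [hI.addSelf, Algebra.algebraMap_eq_smul_one]
  simp only [key] at e1
  have hbb : b = b' := by
    by_contra hne'
    refine hw0 ?_
    have e2 : (b + b') • w = algebraMap F R (a + a') := by
      rw [add_smul, map_add]
      calc b • w + b' • w = (algebraMap F R a + b • w) + (algebraMap F R a + b' • w) := by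
            calc _ = b • w + b' • w + (algebraMap F R a + algebraMap F R a) := by
                  rw [hI.addSelf, add_zero]
              _ = _ := by abel
        _ = algebraMap F R a' + b' • w + (algebraMap F R a + b' • w) := by rw [e1]
        _ = algebraMap F R a + algebraMap F R a' + (b' • w + b' • w) := by abel
        _ = _ := by rw [hI.addSelf, add_zero]
    have hne0 : b + b' ≠ 0 := fun e => hne' (CharTwo.add_eq_zero.1 e)
    have e3 : w = algebraMap F R ((b + b')⁻¹ * (a + a')) := by
      rw [map_mul, ← Algebra.smul_def, ← e2, smul_smul, inv_mul_cancel₀ hne0, one_smul]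
    rw [e3] at hwb
    rw [Algebra.commutes, hI.addSelf] at hwb
    rw [e3, ← hwb]
  subst hbb
  have haa : a = a' := (algebraMap F R).injective (add_right_cancel e1)
  subst haa
  exact Prod.ext rfl (Subtype.ext (add_left_cancel e0))

/-- A move compatible with a shift and with no constant term is trivial. -/
theorem eq_id_of_const_eq_zero {σ ρ : R →ₗ[F] R} (hσ : Move γ S σ) (hρ : Move γ S ρ)
    (hσρ : ∀ x, σ (ρ x + x) = ρ x + x) (hρσ : ∀ x, ρ (σ x + x) = σ x + x) {u : R}
    (hσu : σ u = u + 1) (hu : τ u = 1) (hc : τ (u * (ρ u + u)) = 0) (x : R) : ρ x = x := by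
  set k := ρ u + u with hk
  have hkS : S k = k := hρ.fixS u
  have hρu : ρ u = u + k := by rw [hk, add_comm (ρ u), ← add_assoc, hI.addSelf, zero_add]
  have hkb : u * k + k * u = k := by
    have h1 := hI.bracket hu hkS
    rw [hc, map_zero] at h1
    calc u * k + k * u = u * k + k * u + (k + k) := by rw [hI.addSelf, add_zero]
      _ = (u * k + k * u + k) + k := by abel
      _ = _ := by rw [h1, zero_add]
  have hboth : ∀ x, σ (ρ x) = σ x + ρ x + x := fun x => by
    have h1 := hσρ x
    rw [map_add] at h1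
    calc σ (ρ x) = σ (ρ x) + σ x + σ x := by rw [add_assoc, hI.addSelf, add_zero]
      _ = ρ x + x + σ x := by rw [h1]
      _ = _ := by abel
  have hkey : ∀ x, ρ x + x = k * (σ x + x) := fun x => by
    have h1 := hboth (u * x)
    rw [hρ.mul, hσ.mul, hσ.mul, hboth x, hboth u, hσu, hρu] at h1
    rw [← sub_eq_zero] at h1
    rw [← sub_eq_zero]
    haveI := hI.charTwo
    simp only [CharTwo.sub_eq_add] at h1 ⊢
    rw [← h1]
    simp only [add_mul, mul_add, one_mul]
    calc ρ x + x + (k * σ x + k * x)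
        = ρ x + x + (k * σ x + k * x) + ((u * σ x + u * σ x) + (u * σ x + u * σ x) +
          (u * ρ x + u * ρ x) + (u * ρ x + u * ρ x) + (u * x + u * x) + (u * x + u * x) +
          (σ x + σ x) + (k * ρ x + k * ρ x)) := by simp [hI.addSelf]
      _ = _ := by abel
  refine hI.eq_id_of_fixed hρ (fun h hh => ?_) x
  set h0 := h + algebraMap F R (τ (u * h)) with hh0
  have hb : u * h0 + h0 * u = h0 := hI.bracket_shift hu hh
  have hS0 : S h0 = h0 := by rw [hh0, map_add, hh, hI.S_algebraMap]
  have hwb : u * (σ h0 + h0) + (σ h0 + h0) * u = σ h0 + h0 := by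
    have e := congrArg σ hb
    rw [map_add, hσ.mul, hσ.mul, hσu, add_mul, mul_add, one_mul, mul_one] at e
    rw [mul_add, add_mul]
    calc _ = u * σ h0 + u * h0 + (σ h0 * u + h0 * u) + (σ h0 + σ h0) := by
          rw [hI.addSelf, add_zero]
      _ = (u * σ h0 + σ h0 + (σ h0 * u + σ h0)) + (u * h0 + h0 * u) := by abel
      _ = _ := by rw [e, hb]
  obtain ⟨f, hf⟩ : ∃ f, ρ h0 + h0 = algebraMap F R f :=
    ⟨_, hI.scalar_of_commute hu (hρ.fixS h0)
      (by rw [hkey h0]; exact hI.mul_commute_u hu hkb hwb)⟩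
  obtain ⟨c, hcc⟩ := hI.sq_scalar hu hS0
  clear_value h0
  have h1 : ρ h0 = h0 + algebraMap F R f := by
    rw [← hf, add_comm (ρ h0), ← add_assoc, hI.addSelf, zero_add]
  have h2 := congrArg ρ hcc
  rw [hI.move_algebraMap hρ, hρ.mul, h1, add_mul, mul_add, mul_add, hcc, Algebra.commutes f h0,
    add_assoc, ← add_assoc (h0 * algebraMap F R f), hI.addSelf, zero_add, ← map_mul,
    add_eq_left, map_eq_zero, mul_self_eq_zero] at h2
  rw [h2, map_zero, add_zero, hh0, map_add, hI.move_algebraMap hρ] at h1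
  exact add_right_cancel h1

/-- A non-trivial quadratic family of moves is no larger than the field, and each of them has
fixed points of index at least `|F|²`. -/
theorem family_bound [Finite F] {ι : Type*} (f : ι → R →ₗ[F] R) (hf : ∀ i, Move γ S (f i))
    (hpair : ∀ i j x, f i (f j x + x) = f j x + x) (hinj : Function.Injective f) (i : ι)
    (hne : ∃ x, f i x ≠ x) :
    Nat.card ι ≤ Nat.card F ∧
      Nat.card F * Nat.card F * Nat.card {x : R // f i x = x} ≤ Nat.card R := by
  obtain ⟨u, hσu, hu⟩ := hI.exists_shift (hf i) hne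
  refine ⟨Nat.card_le_card_of_injective (fun j => τ (u * (f j u + u))) ?_,
    hI.card_fix (hf i) hσu hu⟩
  intro j l he
  have he : τ (u * (f j u + u)) = τ (u * (f l u + u)) := he
  have hd : ∀ x, f j (f l x) + x = (f l x + x) + (f j x + x) := fun x => by
    calc f j (f l x) + x = f j (f l x + x) + (f j x + x) := by
          rw [map_add]
          calc f j (f l x) + x = f j (f l x) + x + (f j x + f j x) := by rw [hI.addSelf, add_zero]
            _ = _ := by abel
      _ = _ := by rw [hpair]
  have hρ : Move γ S (f j ∘ₗ f l) :=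
    { mul := fun x y => by simp [(hf j).mul, (hf l).mul]
      twist := by
        obtain ⟨φ, hφ⟩ := (hf j).twist
        obtain ⟨ψ, hψ⟩ := (hf l).twist
        exact ⟨φ.comp ψ, fun g => by simp [hψ, hφ]⟩
      quad := fun x => by
        have hcomm : ∀ z, f j (f l z) = f l (f j z) := fun z => by
          have e1 := hpair j l z
          have e2 := hpair l j z
          rw [map_add] at e1 e2
          calc f j (f l z) = (f j (f l z) + f j z) + f j z := by
                rw [add_assoc, hI.addSelf, add_zero]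
            _ = f l z + z + f j z := by rw [e1]
            _ = (f j z + z) + f l z := by abel
            _ = (f l (f j z) + f l z) + f l z := by rw [e2]
            _ = _ := by rw [add_assoc, hI.addSelf, add_zero]
        simp only [LinearMap.comp_apply]
        rw [← hcomm, (hf l).quad, (hf j).quad]
      fixS := fun x => by
        simp only [LinearMap.comp_apply]
        rw [hd, map_add, (hf l).fixS, (hf j).fixS] }
  have hid : ∀ x, f j (f l x) = x := hI.eq_id_of_const_eq_zero (hf i) hρ
    (fun x => by simp only [LinearMap.comp_apply]; rw [hd, map_add, hpair, hpair])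
    (fun x => by simp only [LinearMap.comp_apply]; rw [hpair, hpair]) hσu hu
    (by simp only [LinearMap.comp_apply]
        rw [hd, mul_add, map_add, ← he, CharTwo.add_self_eq_zero])
  exact hinj (LinearMap.ext fun x => by
    calc f j x = f j (f j (f l x)) := by rw [hid]
      _ = f l x := (hf j).quad _)

end Involutive

end CfsgLib.Offender
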