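import Mathlib
import Cfsg.Prelude.Def_Local
import Cfsg.Agent.Comp.Basic

/-!
# Commuting conjugates of a quasisimple subgroup under a commuting family of unipotent elements
-/

set_option autoImplicit false
set_option linter.style.haveILetI false
set_option linter.unusedSectionVars false

namespace CfsgLib.Offender

open scoped commutatorElement

variable {p : ℕ} [Fact p.Prime] {H Q : Type*} [Group H] [Finite H] [AddCommGroup Q] [Finite Q]
  [Module (ZMod p) Q]

/-- An irreducible module for a group generated by an elementary abelian `A` and the pairwise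
commuting conjugates of a quasisimple subgroup `K` under `A`. -/
structure Setting (σ : Representation (ZMod p) H Q) (A K : Subgroup H) : Prop where
  comm : ∀ a ∈ A, ∀ b ∈ A, a * b = b * a
  pow : ∀ a ∈ A, a ^ p = 1
  quasi : Cfsg.IsQuasisimple K
  orbit : ∀ g ∈ A, (∀ k ∈ K, g * k * g⁻¹ ∈ K) ∨ ∀ k ∈ K, ∀ m ∈ K, Commute (g * k * g⁻¹) m
  gen : ∀ h : H, h ∈ Subgroup.closure {x : H | x ∈ A ∨ ∃ g ∈ A, ∃ k ∈ K, x = g * k * g⁻¹}
  irred : ∀ M : Submodule (ZMod p) Q, (∀ h : H, ∀ w ∈ M, σ h w ∈ M) → M = ⊥ ∨ M = ⊤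
  nontriv : ∃ k ∈ K, σ k ≠ 1

variable {σ : Representation (ZMod p) H Q} {A K : Subgroup H}

/-- The elements of `A` normalizing `K`. -/
def stab (A K : Subgroup H) : Subgroup H := A ⊓ Subgroup.normalizer (K : Set H)

theorem mem_stab {g : H} (hg : g ∈ A) (h : ∀ k ∈ K, g * k * g⁻¹ ∈ K) : g ∈ stab A K := by
  refine ⟨hg, ?_⟩
  apply Subgroup.mem_normalizer_fintype
  exact h

theorem Setting.commute (hS : Setting σ A K) {g : H} (hg : g ∈ A) (hgN : g ∉ stab A K) {k m : H}
    (hk : k ∈ K) (hm : m ∈ K) : Commute (g * k * g⁻¹) m :=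
  ((hS.orbit g hg).resolve_left fun h => hgN (mem_stab hg h)) k hk m hm

/-- `k * a k a⁻¹ * ⋯`, a product of `n` conjugates. -/
def orbProd (a : H) : ℕ → H → H
  | 0, _ => 1
  | n + 1, k => k * (a * orbProd a n k * a⁻¹)

@[simp] theorem orbProd_zero (a k : H) : orbProd a 0 k = 1 := rfl

theorem orbProd_succ (a k : H) (n : ℕ) :
    orbProd a (n + 1) k = k * (a * orbProd a n k * a⁻¹) := rfl

theorem orbProd_succ' (a k : H) : ∀ n : ℕ,
    orbProd a (n + 1) k = orbProd a n k * (a ^ n * k * (a ^ n)⁻¹)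
  | 0 => by simp [orbProd_succ]
  | n + 1 => by
    conv_lhs => rw [orbProd_succ, orbProd_succ' a k n]
    rw [orbProd_succ a k n, pow_succ' a n]
    group

/-- The diagonal map of `K` along the orbit of `a`. -/
def diag (p : ℕ) (a k : H) : H := orbProd a p k

namespace Setting

variable (hS : Setting σ A K) {a : H} (ha : a ∈ A) (haN : a ∉ stab A K)
include hS ha haN

theorem pow_not_mem {j : ℕ} (hj : ¬ p ∣ j) : a ^ j ∉ stab A K := fun h => haN (by
  have hcop : j.Coprime p := ((Fact.out : p.Prime).coprime_iff_not_dvd.2 hj).symm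
  obtain ⟨u, -, hu⟩ := Nat.exists_mul_mod_eq_of_coprime 1 hcop (Fact.out : p.Prime).ne_zero
  have h2 := (stab A K).pow_mem h u
  rwa [← pow_mul, pow_eq_pow_mod (j * u) (hS.pow a ha), hu,
    Nat.mod_eq_of_lt (Fact.out : p.Prime).one_lt, pow_one] at h2)

theorem commute_pow {j : ℕ} (hj : ¬ p ∣ j) {k m : H} (hk : k ∈ K) (hm : m ∈ K) :
    Commute (a ^ j * k * (a ^ j)⁻¹) m :=
  hS.commute (A.pow_mem ha j) (hS.pow_not_mem ha haN hj) hk hm

theorem commute_orbProd : ∀ (n j : ℕ) {k m : H}, k ∈ K → m ∈ K → 1 ≤ j → j + n ≤ p →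
    Commute (a ^ j * orbProd a n k * (a ^ j)⁻¹) m
  | 0, j, k, m, _, _, _, _ => by simp
  | n + 1, j, k, m, hk, hm, hj, hle => by
    have e : a ^ j * orbProd a (n + 1) k * (a ^ j)⁻¹ =
        (a ^ j * k * (a ^ j)⁻¹) * (a ^ (j + 1) * orbProd a n k * (a ^ (j + 1))⁻¹) := by
      rw [orbProd_succ, pow_succ]; group
    rw [e]
    refine (hS.commute_pow ha haN (fun hd => ?_) hk hm).mul_left
      (commute_orbProd n (j + 1) hk hm (by omega) (by omega))
    exact absurd (Nat.le_of_dvd (by omega) hd) (by omega)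

theorem commute_rest {k m : H} (hk : k ∈ K) (hm : m ∈ K) :
    Commute (a * orbProd a (p - 1) k * a⁻¹) m := by
  have h := hS.commute_orbProd ha haN (p - 1) 1 hk hm le_rfl
    (by have := (Fact.out : p.Prime).one_lt; omega)
  rwa [pow_one] at h

theorem diag_eq (k : H) : diag p a k = k * (a * orbProd a (p - 1) k * a⁻¹) := by
  rw [diag, ← orbProd_succ, Nat.sub_add_cancel (Fact.out : p.Prime).one_le]

theorem diag_commute {k : H} (hk : k ∈ K) : Commute (diag p a k) a := by
  have h1 : a * diag p a k * a⁻¹ = k⁻¹ * (diag p a k * k) := by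
    have h := orbProd_succ' a k p
    rw [hS.pow a ha, inv_one, mul_one, one_mul, orbProd_succ] at h
    rw [diag, ← h, inv_mul_cancel_left]
  have h2 : diag p a k * k = k * diag p a k := by
    rw [hS.diag_eq ha haN, mul_assoc k, (hS.commute_rest ha haN hk hk).eq]
  rw [h2, inv_mul_cancel_left] at h1
  exact ((mul_inv_eq_iff_eq_mul.1 h1).symm : _)

theorem orbProd_mul : ∀ {n : ℕ}, n ≤ p → ∀ {k m : H}, k ∈ K → m ∈ K →
    orbProd a n (k * m) = orbProd a n k * orbProd a n m
  | 0, _, _, _, _, _ => by simp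
  | n + 1, hn, k, m, hk, hm => by
    have ih := orbProd_mul (n := n) (by omega) hk hm
    have hc : Commute (a * orbProd a n k * a⁻¹) m := by
      have h := hS.commute_orbProd ha haN n 1 hk hm le_rfl (by omega)
      rwa [pow_one] at h
    rw [orbProd_succ, orbProd_succ, orbProd_succ, ih]
    calc k * m * (a * (orbProd a n k * orbProd a n m) * a⁻¹)
        = k * (m * (a * orbProd a n k * a⁻¹)) * (a * orbProd a n m * a⁻¹) := by group
      _ = k * ((a * orbProd a n k * a⁻¹) * m) * (a * orbProd a n m * a⁻¹) := by rw [hc.eq]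
      _ = _ := by simp only [mul_assoc]

theorem diag_mul {k m : H} (hk : k ∈ K) (hm : m ∈ K) :
    diag p a (k * m) = diag p a k * diag p a m :=
  hS.orbProd_mul ha haN le_rfl hk hm

theorem diag_one : diag p a (1 : H) = 1 := by
  have h := hS.diag_mul ha haN K.one_mem K.one_mem
  rw [mul_one] at h
  exact mul_eq_left.1 h.symm

theorem diag_inv {k : H} (hk : k ∈ K) : diag p a k⁻¹ = (diag p a k)⁻¹ := by
  refine eq_inv_of_mul_eq_one_left ?_
  rw [← hS.diag_mul ha haN (K.inv_mem hk) hk, inv_mul_cancel, hS.diag_one ha haN]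

/-- Conjugating the diagonal by an element of `K` moves only the first factor. -/
theorem conj_diag {k m : H} (hk : k ∈ K) (hm : m ∈ K) :
    m * diag p a k * m⁻¹ = (m * k * m⁻¹ * k⁻¹) * diag p a k := by
  have hc := hS.commute_rest ha haN hk (K.inv_mem hm)
  rw [hS.diag_eq ha haN]
  calc m * (k * (a * orbProd a (p - 1) k * a⁻¹)) * m⁻¹
      = m * k * ((a * orbProd a (p - 1) k * a⁻¹) * m⁻¹) := by group
    _ = m * k * (m⁻¹ * (a * orbProd a (p - 1) k * a⁻¹)) := by rw [hc.eq]
    _ = _ := by group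

end Setting

section Perfect

variable (hS : Setting σ A K)
include hS

/-- A subgroup containing all commutators of `K` contains `K`. -/
theorem Setting.le_of_commutators {U : Subgroup H}
    (h : ∀ k ∈ K, ∀ m ∈ K, k * m * k⁻¹ * m⁻¹ ∈ U) : K ≤ U := by
  have hK : ⁅K, K⁆ = K := Subgroup.isPerfect_iff.mp hS.quasi.1
  calc K = ⁅K, K⁆ := hK.symm
    _ ≤ U := Subgroup.commutator_le.2 fun k hk m hm => by
      rw [commutatorElement_def]; exact h k hk m hm

/-- A non-central normal subset generates `K`. -/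
theorem Setting.le_of_normal {U : Subgroup H} {s : Set H} (hsK : s ⊆ K) (hsU : s ⊆ U)
    (hn : ∀ m ∈ K, ∀ x ∈ s, m * x * m⁻¹ ∈ s) (hnc : ∃ x ∈ s, ∃ m ∈ K, m * x ≠ x * m) : K ≤ U := by
  set T : Subgroup K := Subgroup.closure {x : K | (x : H) ∈ s} with hT
  haveI : T.Normal := ⟨fun x hx g => by
    suffices T ≤ T.comap (MulAut.conj g).toMonoidHom from this hx
    rw [hT, Subgroup.closure_le]
    exact fun y hy => Subgroup.subset_closure (hn g g.2 y hy)⟩
  rcases CfsgLib.Comp.quasisimple_normal hS.quasi (inferInstance : T.Normal) with h | h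
  · intro k hk
    have h1 : (⟨k, hk⟩ : K) ∈ T := h ▸ Subgroup.mem_top _
    have h2 : T ≤ U.comap K.subtype := by
      rw [hT, Subgroup.closure_le]
      exact fun y hy => hsU hy
    exact h2 h1
  · exfalso
    obtain ⟨x, hx, m, hm, hne⟩ := hnc
    exact hne (congrArg Subtype.val (Subgroup.mem_center_iff.1
      (h (Subgroup.subset_closure (show ((⟨x, hsK hx⟩ : K) : H) ∈ s from hx))) ⟨m, hm⟩))

/-- The image of `K` is not abelian. -/
theorem Setting.exists_not_commute : ∃ k ∈ K, ∃ m ∈ K, σ (k * m) ≠ σ (m * k) := by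
  by_contra h
  push Not at h
  obtain ⟨k, hk, hne⟩ := hS.nontriv
  refine hne ?_
  have hle : K ≤ σ.ker := hS.le_of_commutators fun u hu v hv => by
    rw [MonoidHom.mem_ker, mul_assoc (u * v), ← mul_inv_rev, map_mul, h u hu v hv, ← map_mul,
      mul_inv_cancel, map_one]
  exact hle hk

/-- An element of `A` fixing the image of `K` pointwise lies in the stabilizer. -/
theorem Setting.mem_stab_of_commute {g : H} (hg : g ∈ A)
    (h : ∀ k ∈ K, σ (g * k) = σ (k * g)) : g ∈ stab A K := by
  by_contra hgN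
  obtain ⟨k, hk, m, hm, hne⟩ := hS.exists_not_commute
  refine hne ?_
  have h1 : σ (g * k * g⁻¹) = σ k := by
    rw [map_mul, h k hk, ← map_mul, mul_inv_cancel_right]
  rw [map_mul, map_mul, ← h1, ← map_mul, ← map_mul, (hS.commute hg hgN hk hm).eq]

/-- An element of the centraliser of the image of `K` in `A` is trivial on the module. -/
theorem Setting.eq_one_of_commute {g : H} (hg : g ∈ A)
    (h : ∀ k ∈ K, σ (g * k) = σ (k * g)) : σ g = 1 := by
  classical
  have hall : ∀ x : H, σ (g * x) = σ (x * g) := by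
    intro x
    induction hS.gen x using Subgroup.closure_induction with
    | mem x hx =>
      rcases hx with hx | ⟨c, hc, k, hk, rfl⟩
      · rw [hS.comm g hg x hx]
      · have h1 : g * c = c * g := hS.comm g hg c hc
        have h2 : g * c⁻¹ = c⁻¹ * g := hS.comm g hg c⁻¹ (A.inv_mem hc)
        calc σ (g * (c * k * c⁻¹)) = σ c * σ (g * k) * σ c⁻¹ := by
              rw [← map_mul, ← map_mul, ← mul_assoc, ← mul_assoc, h1]
              simp only [mul_assoc]
          _ = σ c * σ (k * g) * σ c⁻¹ := by rw [h k hk]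
          _ = _ := by
              rw [← map_mul, ← map_mul]
              simp only [mul_assoc]
              rw [h2]
    | one => simp
    | mul x y _ _ hx hy =>
      rw [← mul_assoc, map_mul, hx, ← map_mul, mul_assoc, map_mul, hy, ← map_mul, mul_assoc]
    | inv x _ hx =>
      have h3 := congrArg (fun f => σ x⁻¹ * f * σ x⁻¹) hx
      simp only [← map_mul] at h3
      simpa [mul_assoc] using h3.symm
  set M : Submodule (ZMod p) Q := LinearMap.ker (σ g - 1)
  rcases hS.irred M fun x w hw => by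
    simp only [M, LinearMap.mem_ker, LinearMap.sub_apply, Module.End.one_apply, sub_eq_zero] at hw ⊢
    rw [← Module.End.mul_apply, ← map_mul, hall, map_mul, Module.End.mul_apply, hw]
    with hb | ht
  · -- a unipotent map has fixed points
    refine LinearMap.ext fun w => ?_
    have h4 : (σ g - 1) ^ p = 0 := by
      rcases subsingleton_or_nontrivial Q with hQ | hQ
      · exact LinearMap.ext fun v => Subsingleton.elim _ _
      haveI : CharP (Module.End (ZMod p) Q) p := charP_of_injective_algebraMap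
        (FaithfulSMul.algebraMap_injective (ZMod p) (Module.End (ZMod p) Q)) p
      rw [sub_pow_char_of_commute p (Commute.one_right _), ← map_pow, hS.pow g hg, map_one,
        one_pow, sub_self]
    have h5 : Function.Injective ⇑(σ g - 1) := LinearMap.ker_eq_bot.1 hb
    have h6 : Function.Injective ⇑((σ g - 1) ^ p) := by
      rw [Module.End.coe_pow]; exact h5.iterate p
    rw [h4] at h6
    have : Subsingleton Q := ⟨fun u v => h6 rfl⟩
    exact Subsingleton.elim _ _
  · exact sub_eq_zero.1 (LinearMap.ker_eq_top.1 ht)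

end Perfect

variable (σ) in
/-- The diagonal of `K` fixes the commutator space of `a`. -/
def FixesDiag (K : Subgroup H) (a : H) : Prop :=
  ∀ k ∈ K, ∀ w, σ (diag p a k) (σ a w - w) = σ a w - w

/-- A commuting element not centralizing `K` forces the diagonal to fix the commutator space. -/
theorem Setting.fixesDiag_of_stab (hS : Setting σ A K) {a : H} (ha : a ∈ A) (haN : a ∉ stab A K)
    {c : H} (hc : c ∈ stab A K) (hcA : σ c ≠ 1) (hq : (σ c - 1) * (σ a - 1) = 0) :
    FixesDiag σ K a := by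
  let U : Subgroup H :=
    { carrier := {k | k ∈ K ∧ ∀ w, σ (diag p a k) (σ a w - w) = σ a w - w}
      one_mem' := ⟨K.one_mem, fun w => by rw [hS.diag_one ha haN, map_one]; rfl⟩
      mul_mem' := fun {k m} hk hm => ⟨K.mul_mem hk.1 hm.1, fun w => by
        rw [hS.diag_mul ha haN hk.1 hm.1, map_mul, Module.End.mul_apply, hm.2, hk.2]⟩
      inv_mem' := fun {k} hk => ⟨K.inv_mem hk.1, fun w => by
        conv_lhs => rw [← hk.2 w]
        rw [hS.diag_inv ha haN hk.1, ← Module.End.mul_apply, ← map_mul, inv_mul_cancel, map_one,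
          Module.End.one_apply]⟩ }
  have hcK : ∀ k ∈ K, c * k * c⁻¹ ∈ K := fun k hk =>
    (Subgroup.mem_normalizer_iff.1 hc.2 k).1 hk
  have hconj : ∀ k ∈ K, diag p a (c * k * c⁻¹) = c * diag p a k * c⁻¹ := fun k _ => by
    have hca : Commute c a := hS.comm c hc.1 a ha
    have : ∀ n, orbProd a n (c * k * c⁻¹) = c * orbProd a n k * c⁻¹ := by
      intro n
      induction n with
      | zero => simp
      | succ n ih =>
        rw [orbProd_succ, orbProd_succ, ih]
        calc c * k * c⁻¹ * (a * (c * orbProd a n k * c⁻¹) * a⁻¹)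
            = c * k * c⁻¹ * ((a * c) * orbProd a n k * (a * c)⁻¹) := by group
          _ = c * k * c⁻¹ * ((c * a) * orbProd a n k * (c * a)⁻¹) := by rw [hca.eq]
          _ = _ := by group
    exact this p
  have hfix : ∀ w, σ c (σ a w - w) = σ a w - w := fun w => by
    have := LinearMap.congr_fun hq w
    simpa [sub_eq_zero] using this
  have hfix' : ∀ w, σ c⁻¹ (σ a w - w) = σ a w - w := fun w => by
    conv_lhs => rw [← hfix w]
    rw [← Module.End.mul_apply, ← map_mul, inv_mul_cancel, map_one, Module.End.one_apply]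
  -- twisted commutators lie in `U`
  have hU : ∀ k ∈ K, c * k * c⁻¹ * k⁻¹ ∈ U := by
    intro k hk
    refine ⟨K.mul_mem (hcK k hk) (K.inv_mem hk), fun w => ?_⟩
    have h1 : σ (diag p a k⁻¹) (σ a w - w) = σ a (σ (diag p a k⁻¹) w) - σ (diag p a k⁻¹) w := by
      rw [map_sub, ← Module.End.mul_apply, ← map_mul, (hS.diag_commute ha haN (K.inv_mem hk)).eq,
        map_mul, Module.End.mul_apply]
    rw [hS.diag_mul ha haN (hcK k hk) (K.inv_mem hk), hconj k hk, map_mul, Module.End.mul_apply,
      h1, map_mul, map_mul, Module.End.mul_apply, Module.End.mul_apply, hfix', ← h1,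
      ← Module.End.mul_apply (σ (diag p a k)), ← map_mul, ← hS.diag_mul ha haN hk (K.inv_mem hk),
      mul_inv_cancel, hS.diag_one ha haN, map_one, Module.End.one_apply, hfix]
  have hnormal : ∀ m ∈ K, ∀ x ∈ U, m * x * m⁻¹ ∈ U := by
    intro m hm x hx
    refine ⟨K.mul_mem (K.mul_mem hm hx.1) (K.inv_mem hm), fun w => ?_⟩
    have h1 : σ (diag p a m⁻¹) (σ a w - w) = σ a (σ (diag p a m⁻¹) w) - σ (diag p a m⁻¹) w := by
      rw [map_sub, ← Module.End.mul_apply, ← map_mul, (hS.diag_commute ha haN (K.inv_mem hm)).eq,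
        map_mul, Module.End.mul_apply]
    rw [hS.diag_mul ha haN (K.mul_mem hm hx.1) (K.inv_mem hm), hS.diag_mul ha haN hm hx.1,
      map_mul, map_mul, Module.End.mul_apply, Module.End.mul_apply, h1, hx.2, ← h1,
      ← Module.End.mul_apply, ← map_mul, ← hS.diag_mul ha haN hm (K.inv_mem hm), mul_inv_cancel,
      hS.diag_one ha haN, map_one, Module.End.one_apply]
  intro k hk
  by_contra hne
  apply hcA
  refine hS.eq_one_of_commute hc.1 fun m hm => ?_
  -- otherwise the twisted commutators would be central, hence trivial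
  have hcen : ∀ u ∈ K, ∀ v ∈ K, v * (c * u * c⁻¹ * u⁻¹) = (c * u * c⁻¹ * u⁻¹) * v := by
    intro u hu v hv
    by_contra hv'
    refine hne ((hS.le_of_normal (U := U) (s := (U : Set H)) (fun x hx => hx.1) subset_rfl hnormal
      ⟨_, hU u hu, v, hv, hv'⟩ hk).2)
  have hhom : ∀ u ∈ K, c * u * c⁻¹ * u⁻¹ = 1 := by
    let f : K →* K := MonoidHom.mk' (fun u => ⟨c * u * c⁻¹ * (u : H)⁻¹,
      K.mul_mem (hcK u u.2) (K.inv_mem u.2)⟩) fun u v => Subtype.ext (by
        show c * (u * v : H) * c⁻¹ * (u * v : H)⁻¹ = _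
        have h := hcen v v.2 (u : H)⁻¹ (K.inv_mem u.2)
        calc c * (u * v : H) * c⁻¹ * (u * v : H)⁻¹
            = c * u * c⁻¹ * ((c * v * c⁻¹ * (v : H)⁻¹) * (u : H)⁻¹) := by group
          _ = c * u * c⁻¹ * ((u : H)⁻¹ * (c * v * c⁻¹ * (v : H)⁻¹)) := by rw [h]
          _ = _ := by simp only [mul_assoc, Subgroup.coe_mul])
    have hker : f.ker = ⊤ := by
      rw [eq_top_iff, ← (hS.quasi.1).commutator_eq_top, _root_.commutator_def,
        Subgroup.commutator_le]
      intro u _ v _
      rw [MonoidHom.mem_ker, commutatorElement_def, map_mul, map_mul, map_mul, map_inv, map_inv]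
      have hc' : f u * f v = f v * f u :=
        Subtype.ext (hcen v v.2 _ (f u).2)
      rw [hc', mul_assoc (f v), mul_inv_cancel, mul_one, mul_inv_cancel]
    exact fun u hu => congrArg Subtype.val
      (MonoidHom.mem_ker.1 (hker ▸ Subgroup.mem_top (⟨u, hu⟩ : K)) : f ⟨u, hu⟩ = 1)
  rw [show c * m = c * m * c⁻¹ * m⁻¹ * (m * c) by group, hhom m hm, one_mul]

/-- Two independent movers force the diagonal to fix the commutator space. -/
theorem Setting.fixesDiag_of_move (hS : Setting σ A K) {a : H} (ha : a ∈ A) (haN : a ∉ stab A K)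
    {c : H} (hc : c ∈ A) (hca : ∀ i : ℕ, a ^ i * c ∉ stab A K)
    (hq : (σ c - 1) * (σ a - 1) = 0) : FixesDiag σ K a := by
  have hfix : ∀ w, σ c (σ a w - w) = σ a w - w := fun w => by
    have := LinearMap.congr_fun hq w
    simpa [sub_eq_zero] using this
  have hfix' : ∀ w, σ c⁻¹ (σ a w - w) = σ a w - w := fun w => by
    conv_lhs => rw [← hfix w]
    rw [← Module.End.mul_apply, ← map_mul, inv_mul_cancel, map_one, Module.End.one_apply]
  have hd : ∀ k ∈ K, ∀ w, σ (diag p a k) (σ a w - w) =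
      σ a (σ (diag p a k) w) - σ (diag p a k) w := fun k hk w => by
    rw [map_sub, ← Module.End.mul_apply, ← map_mul, (hS.diag_commute ha haN hk).eq, map_mul,
      Module.End.mul_apply]
  have hsame : ∀ k ∈ K, ∀ w,
      σ (c * diag p a k * c⁻¹) (σ a w - w) = σ (diag p a k) (σ a w - w) := fun k hk w => by
    rw [map_mul, map_mul, Module.End.mul_apply, Module.End.mul_apply, hfix', hd k hk, hfix]
  have hcomm : ∀ k ∈ K, ∀ m ∈ K, Commute (c * diag p a k * c⁻¹) (diag p a m) := by
    intro k hk m hm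
    -- each conjugate of one product commutes with each conjugate of the other
    have hkey : ∀ i j : ℕ, Commute (c * (a ^ i * k * (a ^ i)⁻¹) * c⁻¹) (a ^ j * m * (a ^ j)⁻¹) := by
      intro i j
      have hne : (a ^ j)⁻¹ * (c * a ^ i) ∉ stab A K := by
        obtain ⟨t, ht⟩ : ∃ t : ℕ, (a ^ j)⁻¹ * a ^ i = a ^ t := by
          refine ⟨i + (p - 1) * j, ?_⟩
          rw [inv_mul_eq_iff_eq_mul, ← pow_add,
            show j + (i + (p - 1) * j) = i + p * j by
              obtain ⟨q, hq⟩ := Nat.exists_eq_add_of_le (Fact.out : p.Prime).one_le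
              rw [hq, Nat.add_sub_cancel_left]; ring,
            pow_add, pow_mul, hS.pow a ha, one_pow, mul_one]
        rw [hS.comm c hc _ (A.pow_mem ha i), ← mul_assoc, ht]
        exact hca t
      have h := hS.commute (A.mul_mem (A.inv_mem (A.pow_mem ha j)) (A.mul_mem hc (A.pow_mem ha i)))
        hne hk hm
      show _ = _
      calc c * (a ^ i * k * (a ^ i)⁻¹) * c⁻¹ * (a ^ j * m * (a ^ j)⁻¹)
          = a ^ j * ((a ^ j)⁻¹ * (c * a ^ i) * k * ((a ^ j)⁻¹ * (c * a ^ i))⁻¹ * m) * (a ^ j)⁻¹ := by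
            group
        _ = a ^ j * (m * ((a ^ j)⁻¹ * (c * a ^ i) * k * ((a ^ j)⁻¹ * (c * a ^ i))⁻¹)) * (a ^ j)⁻¹ := by
            rw [h.eq]
        _ = _ := by group
    have h1 : ∀ n m' : ℕ, Commute (c * orbProd a n k * c⁻¹) (orbProd a m' m) := by
      intro n
      induction n with
      | zero => intro m'; simp
      | succ n ih =>
        intro m'
        rw [orbProd_succ', show c * (orbProd a n k * (a ^ n * k * (a ^ n)⁻¹)) * c⁻¹ =
          (c * orbProd a n k * c⁻¹) * (c * (a ^ n * k * (a ^ n)⁻¹) * c⁻¹) by group]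
        refine (ih m').mul_left ?_
        induction m' with
        | zero => simp
        | succ m' ih' => rw [orbProd_succ']; exact ih'.mul_right (hkey n m')
    exact h1 p p
  intro k hk w
  let U : Subgroup H :=
    { carrier := {k | k ∈ K ∧ ∀ w, σ (diag p a k) (σ a w - w) = σ a w - w}
      one_mem' := ⟨K.one_mem, fun w => by rw [hS.diag_one ha haN, map_one]; rfl⟩
      mul_mem' := fun {k m} hk hm => ⟨K.mul_mem hk.1 hm.1, fun w => by
        rw [hS.diag_mul ha haN hk.1 hm.1, map_mul, Module.End.mul_apply, hm.2, hk.2]⟩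
      inv_mem' := fun {k} hk => ⟨K.inv_mem hk.1, fun w => by
        conv_lhs => rw [← hk.2 w]
        rw [hS.diag_inv ha haN hk.1, ← Module.End.mul_apply, ← map_mul, inv_mul_cancel, map_one,
          Module.End.one_apply]⟩ }
  refine ((hS.le_of_commutators (U := U) fun u hu v hv => ⟨K.mul_mem (K.mul_mem (K.mul_mem hu hv)
    (K.inv_mem hu)) (K.inv_mem hv), fun w => ?_⟩) hk).2 w
  have hswap : ∀ w, σ (diag p a u * diag p a v) (σ a w - w) =
      σ (diag p a v * diag p a u) (σ a w - w) := fun w => by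
    calc σ (diag p a u * diag p a v) (σ a w - w)
        = σ (diag p a u) (σ (diag p a v) (σ a w - w)) := by rw [map_mul, Module.End.mul_apply]
      _ = σ (c * diag p a u * c⁻¹) (σ (diag p a v) (σ a w - w)) := by
        rw [hd v hv, hsame u hu]
      _ = σ (diag p a v) (σ (c * diag p a u * c⁻¹) (σ a w - w)) := by
        rw [← Module.End.mul_apply, ← map_mul, (hcomm u hu v hv).eq, map_mul, Module.End.mul_apply]
      _ = _ := by rw [hsame u hu, map_mul, Module.End.mul_apply]
  rw [hS.diag_mul ha haN (K.mul_mem (K.mul_mem hu hv) (K.inv_mem hu)) (K.inv_mem hv),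
    hS.diag_mul ha haN (K.mul_mem hu hv) (K.inv_mem hu), hS.diag_mul ha haN hu hv,
    map_mul, Module.End.mul_apply, hd v⁻¹ (K.inv_mem hv), map_mul, Module.End.mul_apply,
    hd u⁻¹ (K.inv_mem hu), hswap, ← hd u⁻¹ (K.inv_mem hu), ← Module.End.mul_apply, ← map_mul,
    mul_assoc, ← hS.diag_mul ha haN hu (K.inv_mem hu), mul_inv_cancel, hS.diag_one ha haN, mul_one,
    ← hd v⁻¹ (K.inv_mem hv), ← Module.End.mul_apply, ← map_mul,
    ← hS.diag_mul ha haN hv (K.inv_mem hv), mul_inv_cancel, hS.diag_one ha haN, map_one,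
    Module.End.one_apply]

end CfsgLib.Offender
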