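import Cfsg.Agent.Offender.Diag

/-!
# Fixed points of the quasisimple subgroup, and orbits of length four
-/

set_option autoImplicit false
set_option linter.style.haveILetI false
set_option linter.unusedSectionVars false

namespace CfsgLib.Offender

open scoped commutatorElement

variable {p : ℕ} [Fact p.Prime] {H Q : Type*} [Group H] [Finite H] [AddCommGroup Q] [Finite Q]
  [Module (ZMod p) Q] {σ : Representation (ZMod p) H Q} {A K : Subgroup H}

/-- The subgroup of elements fixing a vector. -/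
def fixer (σ : Representation (ZMod p) H Q) (v : Q) : Subgroup H where
  carrier := {g | σ g v = v}
  one_mem' := by simp
  mul_mem' := fun {g h} hg hh => by
    show σ (g * h) v = v
    rw [map_mul, Module.End.mul_apply, hh, hg]
  inv_mem' := fun {g} hg => by
    show σ g⁻¹ v = v
    conv_lhs => rw [← (show σ g v = v from hg)]
    rw [← Module.End.mul_apply, ← map_mul, inv_mul_cancel, map_one, Module.End.one_apply]

@[simp] theorem mem_fixer {v : Q} {g : H} : g ∈ fixer σ v ↔ σ g v = v := Iff.rfl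

theorem apply_apply (g h : H) (v : Q) : σ g (σ h v) = σ (g * h) v := by
  rw [map_mul, Module.End.mul_apply]

/-- The fixed space of `K` is moved into itself by an element whose diagonal fixes its commutator
space. -/
theorem Setting.fix_invariant (hS : Setting σ A K) {a : H} (ha : a ∈ A) (haN : a ∉ stab A K)
    (hd : FixesDiag σ K a) {w : Q} (hw : ∀ m ∈ K, σ m w = w) : ∀ m ∈ K, σ m (σ a w) = σ a w := by
  suffices hinv : ∀ w : Q, (∀ m ∈ K, σ m w = w) → ∀ m ∈ K, σ m (σ a⁻¹ w) = σ a⁻¹ w by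
    have hpow : ∀ n : ℕ, ∀ m ∈ K, σ m (σ (a⁻¹ ^ n) w) = σ (a⁻¹ ^ n) w := by
      intro n
      induction n with
      | zero => simpa using hw
      | succ n ih => rw [pow_succ', map_mul, Module.End.mul_apply]; exact hinv _ ih
    have he : a⁻¹ ^ (p - 1) = a := by
      rw [inv_pow, inv_eq_iff_mul_eq_one, ← pow_succ, Nat.sub_add_cancel (Fact.out : p.Prime).one_le,
        hS.pow a ha]
    simpa [he] using hpow (p - 1)
  intro w hw
  -- the diagonal preserves the fixed space
  have hrest : ∀ k ∈ K, ∀ m ∈ K, m * diag p a k = diag p a k * (k⁻¹ * m * k) := by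
    intro k hk m hm
    have hc := hS.commute_rest ha haN hk (K.mul_mem (K.mul_mem (K.inv_mem hk) hm) hk)
    rw [hS.diag_eq ha haN, mul_assoc k, hc.eq]
    group
  have hDM : ∀ k ∈ K, ∀ v : Q, (∀ m ∈ K, σ m v = v) → ∀ m ∈ K,
      σ m (σ (diag p a k) v) = σ (diag p a k) v := by
    intro k hk v hv m hm
    rw [apply_apply, hrest k hk m hm, map_mul, Module.End.mul_apply,
      hv _ (K.mul_mem (K.mul_mem (K.inv_mem hk) hm) hk)]
  have hall : ∀ (y : Q), σ a y = y → (∀ m ∈ K, σ m y = y) → ∀ (n : ℕ), ∀ k ∈ K,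
      σ (orbProd a n k) y = y := by
    intro y hay hy n
    induction n with
    | zero => simp
    | succ n ih =>
      intro k hk
      rw [orbProd_succ]
      show (k * (a * orbProd a n k * a⁻¹)) ∈ fixer σ y
      exact mul_mem (hy k hk) ((fixer σ y).mul_mem ((fixer σ y).mul_mem hay (ih k hk))
        ((fixer σ y).inv_mem hay))
  have hkill : ∀ k ∈ K, ∀ v : Q, (∀ m ∈ K, σ m v = v) →
      ∀ l ∈ K, σ (diag p a l) (σ (diag p a k) v - v) = σ (diag p a k) v - v := by
    intro k hk v hv l hl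
    refine hall _ ?_ (fun m hm => by rw [map_sub, hDM k hk v hv m hm, hv m hm]) p l hl
    have h1 := hd k hk v
    rw [map_sub, apply_apply, (hS.diag_commute ha haN hk).eq, map_mul, Module.End.mul_apply] at h1
    rw [map_sub]
    exact sub_eq_sub_iff_sub_eq_sub.1 h1
  have hfix : ∀ k ∈ K, ∀ v : Q, (∀ m ∈ K, σ m v = v) → σ (diag p a k) v = v := by
    intro k hk v hv
    have hadd : ∀ k ∈ K, ∀ l ∈ K, σ (diag p a (k * l)) v - v =
        (σ (diag p a k) v - v) + (σ (diag p a l) v - v) := by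
      intro k hk l hl
      rw [hS.diag_mul ha haN hk hl, map_mul, Module.End.mul_apply]
      have h1 := hkill l hl v hv k hk
      rw [map_sub] at h1
      rw [sub_eq_iff_eq_add] at h1
      rw [h1]; abel
    let U : Subgroup H :=
      { carrier := {g | g ∈ K ∧ σ (diag p a g) v = v}
        one_mem' := ⟨K.one_mem, by rw [hS.diag_one ha haN, map_one]; rfl⟩
        mul_mem' := fun {x y} hx hy => ⟨K.mul_mem hx.1 hy.1, by
          rw [hS.diag_mul ha haN hx.1 hy.1, map_mul, Module.End.mul_apply, hy.2, hx.2]⟩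
        inv_mem' := fun {x} hx => ⟨K.inv_mem hx.1, by
          conv_lhs => rw [← hx.2]
          rw [apply_apply, hS.diag_inv ha haN hx.1, inv_mul_cancel, map_one, Module.End.one_apply]⟩ }
    refine ((hS.le_of_commutators (U := U) fun u hu x hx => ⟨K.mul_mem (K.mul_mem (K.mul_mem hu hx)
      (K.inv_mem hu)) (K.inv_mem hx), ?_⟩) hk).2
    rw [← sub_eq_zero, hadd _ (K.mul_mem (K.mul_mem hu hx) (K.inv_mem hu)) _ (K.inv_mem hx),
      hadd _ (K.mul_mem hu hx) _ (K.inv_mem hu), hadd u hu x hx]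
    have h2 : ∀ y ∈ K, σ (diag p a y⁻¹) v - v = -(σ (diag p a y) v - v) := fun y hy => by
      have h3 := hadd y hy y⁻¹ (K.inv_mem hy)
      rw [mul_inv_cancel, hS.diag_one ha haN, map_one, Module.End.one_apply, sub_self] at h3
      exact eq_neg_of_add_eq_zero_right h3.symm
    rw [h2 u hu, h2 x hx]
    abel
  intro m hm
  refine ((hS.le_of_commutators (U := fixer σ (σ a⁻¹ w)) fun k hk l hl => ?_) hm :)
  have hla : ∀ x ∈ K, σ x (σ (a * l * a⁻¹) w) = σ (a * l * a⁻¹) w := fun x hx => by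
    rw [apply_apply, ← (hS.commute ha haN hl hx).eq, map_mul, Module.End.mul_apply, hw x hx]
  have h1 := hfix k hk _ hla
  rw [mem_fixer]
  have hd1 : diag p a k * l * (diag p a k)⁻¹ = k * l * k⁻¹ := by
    have hc := hS.commute_rest ha haN hk hl
    rw [hS.diag_eq ha haN, mul_assoc k, hc.eq]
    group
  have h2 : a * (k * l * k⁻¹ * l⁻¹) * a⁻¹ =
      diag p a k * (a * l * a⁻¹) * (diag p a k)⁻¹ * (a * l * a⁻¹)⁻¹ := by
    calc a * (k * l * k⁻¹ * l⁻¹) * a⁻¹
        = a * (diag p a k * l * (diag p a k)⁻¹) * a⁻¹ * (a * l * a⁻¹)⁻¹ := by rw [hd1]; group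
      _ = (a * diag p a k) * l * (a * diag p a k)⁻¹ * (a * l * a⁻¹)⁻¹ := by group
      _ = (diag p a k * a) * l * (diag p a k * a)⁻¹ * (a * l * a⁻¹)⁻¹ := by
        rw [(hS.diag_commute ha haN hk).eq]
      _ = _ := by group
  have h3 : a * (k * l * k⁻¹ * l⁻¹) * a⁻¹ ∈ fixer σ w := by
    rw [h2, mem_fixer, map_mul, Module.End.mul_apply]
    set v := σ (a * l * a⁻¹)⁻¹ w with hv
    have hvfix : ∀ x ∈ K, σ x v = v := fun x hx => by
      have hc : Commute x (a * l * a⁻¹)⁻¹ := (hS.commute ha haN hl hx).symm.inv_right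
      rw [hv, apply_apply, hc.eq, map_mul, Module.End.mul_apply, hw x hx]
    rw [map_mul, map_mul, Module.End.mul_apply, Module.End.mul_apply,
      show σ (diag p a k)⁻¹ v = v by
        rw [← hS.diag_inv ha haN hk]; exact hfix _ (K.inv_mem hk) v hvfix,
      hv, apply_apply (a * l * a⁻¹), mul_inv_cancel, map_one, Module.End.one_apply,
      hfix k hk w hw]
  rw [mem_fixer, map_mul, map_mul, Module.End.mul_apply, Module.End.mul_apply] at h3
  have h4 := congrArg (σ a⁻¹) h3
  rwa [apply_apply a⁻¹, inv_mul_cancel, map_one, Module.End.one_apply] at h4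

/-- `K` fixes no non-zero vector once the elements with a good diagonal generate the moves. -/
theorem Setting.fix_eq_zero (hS : Setting σ A K)
    (hinv : ∀ g ∈ A, ∀ w : Q, (∀ m ∈ K, σ m w = w) → ∀ m ∈ K, σ m (σ g w) = σ g w)
    {v : Q} (hv : ∀ m ∈ K, σ m v = v) : v = 0 := by
  let M : Submodule (ZMod p) Q :=
    { carrier := {w | ∀ m ∈ K, σ m w = w}
      zero_mem' := fun m _ => map_zero _
      add_mem' := fun {x y} hx hy m hm => by rw [map_add, hx m hm, hy m hm]
      smul_mem' := fun c x hx m hm => by rw [map_smul, hx m hm] }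
  have hM : ∀ h : H, ∀ w ∈ M, σ h w ∈ M := by
    intro h
    have hall : ∀ w ∈ M, σ h w ∈ M ∧ σ h⁻¹ w ∈ M := by
      induction hS.gen h using Subgroup.closure_induction with
      | mem x hx =>
        rcases hx with hx | ⟨g, hg, k, hk, rfl⟩
        · exact fun w hw => ⟨hinv x hx w hw, hinv x⁻¹ (A.inv_mem hx) w hw⟩
        · intro w hw
          have h1 : ∀ y ∈ K, σ (g * y * g⁻¹) w = w := fun y hy => by
            rw [map_mul, map_mul, Module.End.mul_apply, Module.End.mul_apply,
              hinv g⁻¹ (A.inv_mem hg) w hw y hy, apply_apply, mul_inv_cancel, map_one,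
              Module.End.one_apply]
          have h2 : (g * k * g⁻¹)⁻¹ = g * k⁻¹ * g⁻¹ := by group
          exact ⟨by rw [h1 k hk]; exact hw, by rw [h2, h1 _ (K.inv_mem hk)]; exact hw⟩
      | one => simp
      | mul x y _ _ hx hy =>
        intro w hw
        constructor
        · rw [map_mul, Module.End.mul_apply]; exact (hx _ (hy w hw).1).1
        · rw [mul_inv_rev, map_mul, Module.End.mul_apply]; exact (hy _ (hx w hw).2).2
      | inv x _ hx => exact fun w hw => ⟨(hx w hw).2, by rw [inv_inv]; exact (hx w hw).1⟩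
    exact fun w hw => (hall w hw).1
  rcases hS.irred M hM with h | h
  · have : v ∈ M := hv
    rwa [h, Submodule.mem_bot] at this
  · obtain ⟨k, hk, hne⟩ := hS.nontriv
    exact absurd (LinearMap.ext fun w => (h ▸ Submodule.mem_top : w ∈ M) k hk) hne

/-- An orbit of length at least four is impossible for `p = 2`. -/
theorem Setting.four_false [hp2 : Fact (p = 2)] (hS : Setting σ A K) {a c : H} (ha : a ∈ A)
    (haN : a ∉ stab A K) (hc : c ∈ A) (hcN : c ∉ stab A K) (hacN : a * c ∉ stab A K)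
    (hd : FixesDiag σ K a) (hfix : ∀ v : Q, (∀ m ∈ K, σ m v = v) → v = 0) : False := by
  have hp : p = 2 := hp2.out
  have ha2 : a * a = 1 := by
    have := hS.pow a ha
    rwa [hp, pow_two] at this
  have hd' : ∀ k, diag p a k = k * (a * k * a⁻¹) := fun k => by
    rw [diag, hp]; simp [orbProd_succ]
  have hcom : ∀ m ∈ K, ∀ k ∈ K, Commute (c * m * c⁻¹) (diag p a k) ∧
      Commute (a * c * m * (a * c)⁻¹) (diag p a k) := by
    intro m hm k hk
    have h1 := hS.commute hc hcN hm hk
    have h2 := hS.commute (A.mul_mem ha hc) hacN hm hk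
    have h3 : ∀ x y : H, Commute x y → Commute (a * x * a⁻¹) (a * y * a⁻¹) := fun x y h => by
      show a * x * a⁻¹ * (a * y * a⁻¹) = a * y * a⁻¹ * (a * x * a⁻¹)
      calc a * x * a⁻¹ * (a * y * a⁻¹) = a * (x * y) * a⁻¹ := by group
        _ = a * (y * x) * a⁻¹ := by rw [h.eq]
        _ = _ := by group
    have e1 : a * (c * m * c⁻¹) * a⁻¹ = a * c * m * (a * c)⁻¹ := by group
    have e2 : a * (a * c * m * (a * c)⁻¹) * a⁻¹ = c * m * c⁻¹ := by
      calc a * (a * c * m * (a * c)⁻¹) * a⁻¹ = (a * a) * (c * m * c⁻¹) * (a * a)⁻¹ := by group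
        _ = _ := by rw [ha2]; group
    rw [hd']
    exact ⟨h1.mul_right (e2 ▸ h3 _ _ h2), h2.mul_right (e1 ▸ h3 _ _ h1)⟩
  let U : Subgroup H :=
    { carrier := {g | (∀ k ∈ K, Commute g (diag p a k)) ∧
        ∀ w, ∀ k ∈ K, σ (diag p a k) (σ g w - w) = σ g w - w}
      one_mem' := ⟨fun k _ => Commute.one_left _, fun w k _ => by simp⟩
      mul_mem' := fun {x y} hx hy => ⟨fun k hk => (hx.1 k hk).mul_left (hy.1 k hk), fun w k hk => by
        have e : σ (x * y) w - w = σ x (σ y w - w) + (σ x w - w) := by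
          rw [map_sub, map_mul, Module.End.mul_apply]; abel
        rw [e, map_add, hx.2 w k hk, apply_apply, ← (hx.1 k hk).eq, map_mul, Module.End.mul_apply,
          hy.2 w k hk]⟩
      inv_mem' := fun {x} hx => ⟨fun k hk => (hx.1 k hk).inv_left, fun w k hk => by
        have h := hx.2 (σ x⁻¹ w) k hk
        rw [apply_apply x, mul_inv_cancel, map_one, Module.End.one_apply] at h
        rw [← neg_sub w (σ x⁻¹ w), map_neg, h]⟩ }
  have ht : ∀ m ∈ K, (c * m * c⁻¹) * (a * c * m * (a * c)⁻¹)⁻¹ ∈ U := by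
    intro m hm
    refine ⟨fun k hk => (hcom m hm k hk).1.mul_left (hcom m hm k hk).2.inv_left, fun w k hk => ?_⟩
    set t := (c * m * c⁻¹) * (a * c * m * (a * c)⁻¹)⁻¹ with htdef
    have htc : Commute t (diag p a k) :=
      (hcom m hm k hk).1.mul_left (hcom m hm k hk).2.inv_left
    have e : σ t w - w = (σ (c * m * c⁻¹) (σ a (σ (c * m * c⁻¹)⁻¹ w) - σ (c * m * c⁻¹)⁻¹ w)) -
        σ t (σ a w - w) := by
      rw [map_sub, map_sub, apply_apply a, apply_apply, apply_apply, apply_apply, mul_inv_cancel,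
        map_one, Module.End.one_apply,
        show c * m * c⁻¹ * (a * (c * m * c⁻¹)⁻¹) = t * a by rw [htdef]; group]
      abel
    set g := c * m * c⁻¹ with hg
    rw [e, map_sub, apply_apply (diag p a k), ← (hcom m hm k hk).1.eq, ← hg, map_mul σ g,
      Module.End.mul_apply, hd k hk, apply_apply (diag p a k), ← htc.eq, map_mul σ t,
      Module.End.mul_apply, hd k hk]
  have hle : K ≤ U.comap (MulAut.conj (a * c)).toMonoidHom := by
    refine hS.le_of_commutators fun m hm n hn => ?_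
    have hmn : Commute (a * c * m * (a * c)⁻¹) (c * n * c⁻¹) := by
      have h1 := hS.commute ha haN hm hn
      show _ = _
      have hca : a * c = c * a := hS.comm a ha c hc
      calc a * c * m * (a * c)⁻¹ * (c * n * c⁻¹) = c * (a * m * a⁻¹ * n) * c⁻¹ := by rw [hca]; group
        _ = c * (n * (a * m * a⁻¹)) * c⁻¹ := by rw [h1.eq]
        _ = _ := by rw [hca]; group
    have h2 := U.mul_mem (U.inv_mem (ht _ (K.mul_mem hm hn))) (U.mul_mem (ht m hm) (ht n hn))
    have e : (c * (m * n) * c⁻¹ * (a * c * (m * n) * (a * c)⁻¹)⁻¹)⁻¹ *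
        ((c * m * c⁻¹ * (a * c * m * (a * c)⁻¹)⁻¹) * (c * n * c⁻¹ * (a * c * n * (a * c)⁻¹)⁻¹)) =
        a * c * (m * n * m⁻¹ * n⁻¹) * (a * c)⁻¹ := by
      calc _ = (c * (m * n) * c⁻¹ * (a * c * (m * n) * (a * c)⁻¹)⁻¹)⁻¹ * (c * m * c⁻¹ *
            ((a * c * m * (a * c)⁻¹)⁻¹ * (c * n * c⁻¹)) * (a * c * n * (a * c)⁻¹)⁻¹) := by group
        _ = (c * (m * n) * c⁻¹ * (a * c * (m * n) * (a * c)⁻¹)⁻¹)⁻¹ * (c * m * c⁻¹ *
            ((c * n * c⁻¹) * (a * c * m * (a * c)⁻¹)⁻¹) * (a * c * n * (a * c)⁻¹)⁻¹) := by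
          rw [hmn.inv_left.eq]
        _ = _ := by group
    rw [e] at h2
    exact h2
  obtain ⟨m, hm, hne⟩ := hS.nontriv
  refine hne ?_
  have hg : σ (a * c * m * (a * c)⁻¹) = 1 := by
    have hU : a * c * m * (a * c)⁻¹ ∈ U := hle hm
    refine LinearMap.ext fun w => sub_eq_zero.1 (hfix _ fun x hx => ?_)
    refine ((hS.le_of_commutators (U := fixer σ _) fun k hk l hl => ?_) hx :)
    -- the vector is fixed by both the diagonal and its conjugate
    set v := σ (a * c * m * (a * c)⁻¹) w - w with hv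
    have hvk : ∀ k ∈ K, diag p a k ∈ fixer σ v := fun k hk => hU.2 w k hk
    have hvl : ∀ k ∈ K, k * diag p a l * k⁻¹ ∈ fixer σ v := fun k hk => by
      have hc' : Commute k⁻¹ (a * c * m * (a * c)⁻¹) :=
        (hS.commute (A.mul_mem ha hc) hacN hm (K.inv_mem hk)).symm
      have e : σ k⁻¹ v = σ (a * c * m * (a * c)⁻¹) (σ k⁻¹ w) - σ k⁻¹ w := by
        rw [hv, map_sub, apply_apply, hc'.eq, map_mul, Module.End.mul_apply]
      rw [mem_fixer, map_mul, map_mul, Module.End.mul_apply, Module.End.mul_apply, e,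
        hU.2 _ l hl, ← e, apply_apply, mul_inv_cancel, map_one, Module.End.one_apply]
    have h3 := mul_mem (hvl k hk) ((fixer σ v).inv_mem (hvk l hl))
    rwa [hS.conj_diag ha haN hl hk, mul_inv_cancel_right] at h3
  have e : m = (a * c)⁻¹ * (a * c * m * (a * c)⁻¹) * (a * c) := by group
  rw [e, map_mul, map_mul, hg, mul_one, ← map_mul, inv_mul_cancel, map_one]

end CfsgLib.Offender
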