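import Cfsg.Agent.Offender.Block

/-!
# Passing to a residue field of the scalars
-/

set_option autoImplicit false
set_option linter.style.haveILetI false
set_option linter.unusedSectionVars false

namespace CfsgLib.Offender

open scoped TensorProduct

variable {Z R G : Type*} [CommRing Z] [Finite Z] [Ring R] [Algebra Z R] [Finite R] [Group G]
  [Finite G]

/-- A commuting quadratic family of automorphisms coming from a quasisimple group, with fixed
points of index at most twice the size of the family, is trivial. -/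
theorem quadratic_family_false (hinj : Function.Injective (algebraMap Z R))
    (h2 : ∀ x : R, x + x = 0) (γ : G →* R) (hq : Cfsg.IsQuasisimple G)
    (hnt : ∃ g, γ g ≠ 1) (hspan : ∀ x : R, x ∈ Submodule.span Z (Set.range γ))
    (S : R →ₗ[Z] R) (hmul : ∀ x y, S (x * y) = S y * S x) (hgam : ∀ g, S (γ g) = γ g⁻¹)
    (htr : ∀ x, ∃ z, x + S x = algebraMap Z R z)
    {ι : Type*} (f : ι → R →ₗ[Z] R) (hfinj : Function.Injective f)
    (hfmul : ∀ i x y, f i (x * y) = f i x * f i y)
    (htwist : ∀ i, ∃ ψ : G →* G, ∀ g, f i (γ g) = γ (ψ g))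
    (hpair : ∀ i j x, f i (f j x + x) = f j x + x)
    (hfix : ∀ i x, S (f i x + x) = f i x + x) (i : ι) (hi : ∃ x, f i x ≠ x)
    (hcount : Nat.card R ≤ 2 * Nat.card ι * Nat.card {x : R // f i x = x}) : False := by
  classical
  haveI := hq.1
  haveI : Nontrivial R := let ⟨g, hg⟩ := hnt; ⟨⟨γ g, 1, hg⟩⟩
  haveI : CharP R 2 := CharTwo.of_one_ne_zero_of_two_eq_zero one_ne_zero
    (by rw [← one_add_one_eq_two]; exact h2 1)
  have hquad : ∀ i x, f i (f i x) = x := fun i x => by
    have h := hpair i i x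
    rw [map_add, add_comm] at h
    exact add_left_cancel h
  -- a group element with a non-nilpotent trace
  obtain ⟨g₀, z₀, hz₀, hnil⟩ : ∃ g z, γ g + S (γ g) = algebraMap Z R z ∧ ¬IsNilpotent z := by
    by_contra hcon
    push Not at hcon
    obtain ⟨g, hg⟩ := hnt
    haveI : Group.IsPerfect γ.toHomUnits.range :=
      Group.IsPerfect.ofSurjective (f := γ.toHomUnits.rangeRestrict)
        γ.toHomUnits.rangeRestrict_surjective
    haveI : Finite γ.toHomUnits.range :=
      Finite.of_surjective _ γ.toHomUnits.rangeRestrict_surjective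
    have hP : IsPGroup 2 γ.toHomUnits.range := by
      rintro ⟨_, m, rfl⟩
      obtain ⟨z, hz⟩ := htr (γ m)
      obtain ⟨n, hn⟩ := hcon m z hz
      refine ⟨n + 1, Subtype.ext (Units.ext ?_)⟩
      rw [hgam] at hz
      have hc : Commute (γ m) (γ m⁻¹) := by
        show γ m * γ m⁻¹ = γ m⁻¹ * γ m
        rw [← map_mul, ← map_mul, mul_inv_cancel, inv_mul_cancel]
      have hle : n ≤ 2 ^ n := (Nat.lt_two_pow_self).le
      have e := congrArg (· ^ (2 ^ n)) hz
      simp only [← map_pow, pow_eq_zero_of_le hle hn, map_zero,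
        add_pow_char_pow_of_commute 2 n hc, CharTwo.add_eq_zero] at e
      show γ m ^ 2 ^ (n + 1) = 1
      rw [pow_succ, pow_mul, pow_two, ← map_pow]
      conv_lhs => arg 2; rw [e]
      rw [← map_mul, inv_pow, mul_inv_cancel, map_one]
    haveI : Group.IsNilpotent γ.toHomUnits.range := hP.isNilpotent
    rcases subsingleton_or_nontrivial γ.toHomUnits.range with h | h
    · refine hg ?_
      have := congrArg (fun x : γ.toHomUnits.range => ((x : Rˣ) : R))
        (Subsingleton.elim (⟨γ.toHomUnits g, g, rfl⟩ : γ.toHomUnits.range) 1)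
      simpa using this
    · exact Group.IsPerfect.not_isSolvable γ.toHomUnits.range inferInstance
  obtain ⟨m, hm, hz₀m⟩ : ∃ m : Ideal Z, m.IsPrime ∧ z₀ ∉ m := by
    by_contra hcon
    push Not at hcon
    exact hnil (nilpotent_iff_mem_prime.2 fun J hJ => hcon J hJ)
  haveI : Finite (Z ⧸ m) := Finite.of_surjective _ Ideal.Quotient.mk_surjective
  haveI : m.IsMaximal := Ideal.Quotient.maximal_of_isField m (Finite.isField_of_domain (Z ⧸ m))
  letI : Field (Z ⧸ m) := Ideal.Quotient.field m
  let π : R →ₐ[Z] (Z ⧸ m) ⊗[Z] R := Algebra.TensorProduct.includeRight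
  have hπ : ∀ x, π x = (1 : Z ⧸ m) ⊗ₜ[Z] x := fun _ => rfl
  have hsurj : Function.Surjective π := by
    intro y
    induction y using TensorProduct.induction_on with
    | zero => exact ⟨0, map_zero _⟩
    | tmul c x =>
      obtain ⟨z, rfl⟩ := Ideal.Quotient.mk_surjective c
      refine ⟨z • x, ?_⟩
      rw [hπ, TensorProduct.tmul_smul, TensorProduct.smul_tmul', Algebra.smul_def, mul_one]
      rfl
    | add a b ha hb =>
      obtain ⟨x, rfl⟩ := ha
      obtain ⟨y, rfl⟩ := hb
      exact ⟨x + y, map_add _ _ _⟩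
  haveI : Finite ((Z ⧸ m) ⊗[Z] R) := Finite.of_surjective π hsurj
  haveI : Nontrivial ((Z ⧸ m) ⊗[Z] R) := by
    by_contra hcon
    rw [not_nontrivial_iff_subsingleton] at hcon
    haveI : Subsingleton (R ⧸ m • (⊤ : Submodule Z R)) :=
      (TensorProduct.quotTensorEquivQuotSMul R m).symm.toEquiv.subsingleton
    have htop : m • (⊤ : Submodule Z R) = ⊤ := Submodule.Quotient.subsingleton_iff.1 inferInstance
    haveI : Module.Finite Z R := Module.Finite.of_finite
    obtain ⟨r, hr, hr0⟩ := Submodule.exists_sub_one_mem_and_smul_eq_zero_of_fg_of_le_smul m ⊤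
      Module.Finite.fg_top htop.ge
    have h1 := hr0 1 Submodule.mem_top
    rw [Algebra.smul_def, mul_one, ← map_zero (algebraMap Z R)] at h1
    rw [hinj h1, zero_sub] at hr
    exact hm.ne_top ((Ideal.eq_top_iff_one m).2 (by simpa using hr))
  haveI : CharP (Z ⧸ m) 2 := CharTwo.of_one_ne_zero_of_two_eq_zero one_ne_zero (by
    have h : algebraMap Z R (2 : Z) = algebraMap Z R 0 := by
      rw [map_zero, map_ofNat, ← one_add_one_eq_two]; exact h2 1
    rw [← map_ofNat (Ideal.Quotient.mk m), hinj h, map_zero])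
  have hscal : ∀ z, π (algebraMap Z R z) =
      algebraMap (Z ⧸ m) ((Z ⧸ m) ⊗[Z] R) (Ideal.Quotient.mk m z) := fun z => by
    rw [π.commutes, IsScalarTower.algebraMap_apply Z (Z ⧸ m)]
    rfl
  let S' := S.baseChange (Z ⧸ m)
  have hS' : ∀ x, S' (π x) = π (S x) := fun x => LinearMap.baseChange_tmul ..
  have htr' : ∀ y, ∃ c, y + S' y = algebraMap (Z ⧸ m) ((Z ⧸ m) ⊗[Z] R) c := by
    intro y
    obtain ⟨x, rfl⟩ := hsurj y
    obtain ⟨z, hz⟩ := htr x
    exact ⟨Ideal.Quotient.mk m z, by rw [hS', ← map_add, hz, hscal]⟩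
  choose τ hτ using htr'
  have hainj : Function.Injective (algebraMap (Z ⧸ m) ((Z ⧸ m) ⊗[Z] R)) :=
    (algebraMap (Z ⧸ m) _).injective
  let τ' : (Z ⧸ m) ⊗[Z] R →ₗ[Z ⧸ m] Z ⧸ m :=
    { toFun := τ
      map_add' := fun x y => hainj (by
        rw [map_add, ← hτ, ← hτ, ← hτ, map_add]; abel)
      map_smul' := fun c x => hainj (by
        rw [RingHom.id_apply, smul_eq_mul, map_mul, ← hτ, ← hτ, map_smul, ← Algebra.smul_def,
          smul_add]) }
  let γ' : G →* (Z ⧸ m) ⊗[Z] R := (π : R →* (Z ⧸ m) ⊗[Z] R).comp γ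
  have hγ' : ∀ g, γ' g = π (γ g) := fun _ => rfl
  have hnt' : ∃ g, γ' g ≠ 1 := by
    by_contra hcon
    push Not at hcon
    apply hz₀m
    rw [← Ideal.Quotient.eq_zero_iff_mem]
    apply hainj
    rw [map_zero, ← hscal, ← hz₀, hgam, map_add, ← hγ', ← hγ', hcon, hcon]
    have h := congrArg π (h2 1)
    rwa [map_add, map_one, map_zero] at h
  have hI : Involutive γ' S' τ' :=
    { quasi := hq
      span := fun y => by
        obtain ⟨x, rfl⟩ := hsurj y
        induction hspan x using Submodule.span_induction with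
        | mem a ha => obtain ⟨g, rfl⟩ := ha; exact Submodule.subset_span ⟨g, rfl⟩
        | zero => rw [map_zero]; exact zero_mem _
        | add a b _ _ ha hb => rw [map_add]; exact add_mem ha hb
        | smul c a _ ha =>
          rw [map_smul, ← IsScalarTower.algebraMap_smul (Z ⧸ m) c]
          exact Submodule.smul_mem _ _ ha
      nontriv := hnt'
      mul := fun x y => by
        obtain ⟨x, rfl⟩ := hsurj x
        obtain ⟨y, rfl⟩ := hsurj y
        rw [← map_mul, hS', hS', hS', hmul, map_mul]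
      gamma := fun g => by rw [hγ', hS', hgam, hγ']
      trace := hτ }
  let f' : ι → _ := fun j => (f j).baseChange (Z ⧸ m)
  have hf' : ∀ j x, f' j (π x) = π (f j x) := fun j x => LinearMap.baseChange_tmul ..
  have hmove : ∀ j, Move γ' S' (f' j) := fun j =>
    { mul := fun x y => by
        obtain ⟨x, rfl⟩ := hsurj x
        obtain ⟨y, rfl⟩ := hsurj y
        rw [← map_mul, hf', hf', hf', hfmul, map_mul]
      twist := by
        obtain ⟨ψ, hψ⟩ := htwist j
        exact ⟨ψ, fun g => by rw [hγ', hf', hψ, hγ']⟩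
      quad := fun x => by
        obtain ⟨x, rfl⟩ := hsurj x
        rw [hf', hf', hquad]
      fixS := fun x => by
        obtain ⟨x, rfl⟩ := hsurj x
        rw [hf', ← map_add, hS', hfix] }
  have hpair' : ∀ j l x, f' j (f' l x + x) = f' l x + x := fun j l x => by
    obtain ⟨x, rfl⟩ := hsurj x
    rw [hf', ← map_add, hf', hpair]
  have hfaith : ∀ j l, (∀ g, f' j (f' l (γ' g)) = γ' g) → f j = f l := by
    intro j l hid
    obtain ⟨φ, hφ⟩ := htwist j
    obtain ⟨ψ, hψ⟩ := htwist l
    have hid' : ∀ g, (φ.comp ψ) g = g := eq_self_of_central _ fun g => by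
      rcases CfsgLib.Comp.quasisimple_normal hq (inferInstance : γ'.ker.Normal) with h | h
      · obtain ⟨x, hx⟩ := hnt'
        exact absurd (MonoidHom.mem_ker.1 (h ▸ Subgroup.mem_top x : x ∈ γ'.ker)) hx
      · refine h (MonoidHom.mem_ker.2 ?_)
        have e : γ' ((φ.comp ψ) g) = γ' g := by
          conv_rhs => rw [← hid g]
          rw [hγ', hγ', hf', hf', hψ, hφ]; rfl
        rw [map_mul, e, ← map_mul, mul_inv_cancel, map_one]
    refine LinearMap.ext fun x => ?_
    have hcomp : ∀ y, f j (f l y) = y := fun y => by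
      induction hspan y using Submodule.span_induction with
      | mem a ha => obtain ⟨g, rfl⟩ := ha; rw [hψ, hφ]; exact congrArg γ (hid' g)
      | zero => rw [map_zero, map_zero]
      | add a b _ _ ha hb => rw [map_add, map_add, ha, hb]
      | smul c a _ ha => rw [map_smul, map_smul, ha]
    calc f j x = f j (f j (f l x)) := by rw [hcomp]
      _ = f l x := hquad j _
  have hinj' : Function.Injective f' := fun j l e => hfinj (hfaith j l fun g => by
    rw [e, (hmove l).quad])
  obtain ⟨x₀, hx₀⟩ := hi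
  have hne : ∃ y, f' i y ≠ y := by
    by_contra hcon
    push Not at hcon
    apply hx₀
    obtain ⟨ψ, hψ⟩ := htwist i
    have hid' : ∀ g, ψ g = g := eq_self_of_central ψ fun g => by
      rcases CfsgLib.Comp.quasisimple_normal hq (inferInstance : γ'.ker.Normal) with h | h
      · obtain ⟨x, hx⟩ := hnt'
        exact absurd (MonoidHom.mem_ker.1 (h ▸ Subgroup.mem_top x : x ∈ γ'.ker)) hx
      · refine h (MonoidHom.mem_ker.2 ?_)
        have e : γ' (ψ g) = γ' g := by
          conv_rhs => rw [← hcon (γ' g)]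
          rw [hγ', hγ', hf', hψ]
        rw [map_mul, e, ← map_mul, mul_inv_cancel, map_one]
    suffices h : ∀ x, f i x = x from h x₀
    intro x
    induction hspan x using Submodule.span_induction with
    | mem a ha => obtain ⟨g, rfl⟩ := ha; rw [hψ, hid']
    | zero => rw [map_zero]
    | add a b _ _ ha hb => rw [map_add, ha, hb]
    | smul c a _ ha => rw [map_smul, ha]
  obtain ⟨hι, hindex⟩ := hI.family_bound f' hmove hpair' hinj' i hne
  -- compare the indices of the fixed points
  let P : AddSubgroup R := AddMonoidHom.eqLocus (f i).toAddMonoidHom (AddMonoidHom.id R)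
  let πa : R →+ (Z ⧸ m) ⊗[Z] R := π.toAddMonoidHom
  have hP : Nat.card {x : R // f i x = x} = Nat.card P := rfl
  have h3 : Nat.card R = Nat.card ((Z ⧸ m) ⊗[Z] R) * Nat.card πa.ker := by
    rw [AddSubgroup.card_eq_card_quotient_mul_card_addSubgroup πa.ker,
      Nat.card_congr (QuotientAddGroup.quotientKerEquivOfSurjective πa hsurj).toEquiv]
  have h4 : Nat.card P ≤ Nat.card {y // f' i y = y} * Nat.card πa.ker := by
    rw [← Nat.card_prod]
    let r : {y // f' i y = y} → P := Function.invFun
      (fun x : P => (⟨π x, by rw [hf']; exact congrArg π x.2⟩ : {y // f' i y = y}))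
    refine Nat.card_le_card_of_injective (fun x : P =>
      ((⟨π x, by rw [hf']; exact congrArg π x.2⟩ : {y // f' i y = y}),
        (⟨(x : R) - (r ⟨π x, by rw [hf']; exact congrArg π x.2⟩ : P), ?_⟩ : πa.ker))) ?_
    · rw [AddMonoidHom.mem_ker, map_sub, sub_eq_zero]
      exact (congrArg Subtype.val (Function.invFun_eq (f := fun x : P =>
        (⟨π x, by rw [hf']; exact congrArg π x.2⟩ : {y // f' i y = y})) ⟨x, rfl⟩)).symm
    · intro x y e
      simp only [Prod.mk.injEq, Subtype.mk.injEq] at e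
      have e1 : (⟨π x, by rw [hf']; exact congrArg π x.2⟩ : {y // f' i y = y}) =
          ⟨π y, by rw [hf']; exact congrArg π y.2⟩ := Subtype.ext e.1
      rw [e1] at e
      exact Subtype.ext (sub_left_injective e.2)
  obtain ⟨c, hc0, hc1⟩ := hI.exists_scalar
  have hq3 : 3 ≤ Nat.card (Z ⧸ m) := by
    haveI : Fintype (Z ⧸ m) := Fintype.ofFinite _
    rw [Nat.card_eq_fintype_card]
    calc 3 = ({0, 1, c} : Finset (Z ⧸ m)).card := by
          rw [Finset.card_insert_of_notMem, Finset.card_pair hc1.symm]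
          simp [hc0.symm]
      _ ≤ _ := Finset.card_le_univ _
  rw [hP] at hcount
  have hPpos : 0 < Nat.card P := Nat.card_pos
  have hchain : Nat.card (Z ⧸ m) * (Nat.card (Z ⧸ m) * Nat.card P) ≤
      Nat.card (Z ⧸ m) * (2 * Nat.card P) :=
    calc Nat.card (Z ⧸ m) * (Nat.card (Z ⧸ m) * Nat.card P)
        ≤ Nat.card (Z ⧸ m) * (Nat.card (Z ⧸ m) * (Nat.card {y // f' i y = y} * Nat.card πa.ker)) :=
          Nat.mul_le_mul_left _ (Nat.mul_le_mul_left _ h4)
      _ = Nat.card (Z ⧸ m) * Nat.card (Z ⧸ m) * Nat.card {y // f' i y = y} * Nat.card πa.ker := by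
          ring
      _ ≤ Nat.card R := by rw [h3]; exact Nat.mul_le_mul_right _ hindex
      _ ≤ 2 * Nat.card ι * Nat.card P := hcount
      _ ≤ 2 * Nat.card (Z ⧸ m) * Nat.card P := by gcongr
      _ = _ := by ring
  have h5 := Nat.le_of_mul_le_mul_right (Nat.le_of_mul_le_mul_left hchain (by omega)) hPpos
  omega

end CfsgLib.Offender
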