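import Cfsg.Agent.Offender.Diag
import Cfsg.Agent.Offender.Reduce

/-!
# Orbits of length two
-/

set_option autoImplicit false
set_option linter.style.haveILetI false
set_option linter.unusedSectionVars false

namespace CfsgLib.Offender

variable {H Q : Type*} [Group H] [Finite H] [AddCommGroup Q] [Finite Q] [Module (ZMod 2) Q]
  {σ : Representation (ZMod 2) H Q} {A K : Subgroup H}

theorem addSelf_two {M : Type*} [AddCommGroup M] [Module (ZMod 2) M] (x : M) : x + x = 0 := by
  rw [← two_smul (ZMod 2) x, show (2 : ZMod 2) = 0 from rfl, zero_smul]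

theorem sub_eq_add_two {M : Type*} [AddCommGroup M] [Module (ZMod 2) M] (x y : M) :
    x - y = x + y := by
  rw [sub_eq_add_neg, eq_neg_of_add_eq_zero_left (addSelf_two y) |>.symm]

/-- The algebra spanned by the image of `K`. -/
abbrev kAlg (σ : Representation (ZMod 2) H Q) (K : Subgroup H) :
    Subalgebra (ZMod 2) (Module.End (ZMod 2) Q) :=
  Algebra.adjoin (ZMod 2) (σ '' K)

theorem mem_kAlg {x : Module.End (ZMod 2) Q} :
    x ∈ kAlg σ K ↔ x ∈ Submodule.span (ZMod 2) (σ '' K) := by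
  rw [← Algebra.adjoin_eq_span_of_subset, Subalgebra.mem_toSubmodule]
  refine subset_trans ?_ Submodule.subset_span
  show ↑(Submonoid.closure (σ '' (K : Set H))) ⊆ σ '' (K : Set H)
  have : Submonoid.closure (σ '' (K : Set H)) ≤ K.toSubmonoid.map (σ : H →* _) :=
    Submonoid.closure_le.2 fun _ h => h
  exact this

/-- The monoid map from `K` into its algebra. -/
def kHom (σ : Representation (ZMod 2) H Q) (K : Subgroup H) : K →* kAlg σ K where
  toFun k := ⟨σ k, Algebra.subset_adjoin ⟨k, k.2, rfl⟩⟩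
  map_one' := Subtype.ext (map_one σ)
  map_mul' k m := Subtype.ext (map_mul σ (k : H) m)

@[simp] theorem kHom_apply (k : K) : (kHom σ K k : Module.End (ZMod 2) Q) = σ k := rfl

theorem span_kHom (x : kAlg σ K) : x ∈ Submodule.span (ZMod 2) (Set.range (kHom σ K)) := by
  have h : Submodule.span (ZMod 2) (Set.range (kHom σ K)) =
      (Submodule.span (ZMod 2) (σ '' K)).comap (kAlg σ K).val.toLinearMap := by
    refine le_antisymm (Submodule.span_le.2 ?_) ?_
    · rintro _ ⟨k, rfl⟩; exact Submodule.subset_span ⟨k, k.2, rfl⟩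
    · intro y hy
      have hmap : Submodule.span (ZMod 2) (σ '' K) =
          (Submodule.span (ZMod 2) (Set.range (kHom σ K))).map (kAlg σ K).val.toLinearMap := by
        rw [Submodule.map_span]
        congr 1
        ext z
        constructor
        · rintro ⟨k, hk, rfl⟩; exact ⟨_, ⟨⟨k, hk⟩, rfl⟩, rfl⟩
        · rintro ⟨_, ⟨k, rfl⟩, rfl⟩; exact ⟨k, k.2, rfl⟩
      rw [Submodule.mem_comap, hmap] at hy
      obtain ⟨w, hw, he⟩ := hy
      exact Subtype.ext he ▸ hw
  rw [h, Submodule.mem_comap]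
  exact mem_kAlg.1 x.2

theorem app_app (g h : H) (v : Q) : σ g (σ h v) = σ (g * h) v := by
  rw [map_mul, Module.End.mul_apply]

theorem Setting.self_mul (hS : Setting σ A K) {a : H} (ha : a ∈ A) : a * a = 1 := by
  rw [← pow_two]; exact hS.pow a ha

theorem Setting.inv_eq (hS : Setting σ A K) {a : H} (ha : a ∈ A) : a⁻¹ = a :=
  inv_eq_of_mul_eq_one_right (hS.self_mul ha)

/-- A common fixed point in the commutator space. -/
theorem Setting.exists_fixed (hS : Setting σ A K) {a : H} (ha : a ∈ A) (hne : σ a ≠ 1) :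
    ∃ v, v ≠ 0 ∧ (∃ w, v = σ a w + w) ∧ ∀ g ∈ A, σ g v = v := by
  obtain ⟨w, hw⟩ : ∃ w, σ a w + w ≠ 0 := by
    by_contra hcon
    push Not at hcon
    exact hne (LinearMap.ext fun w => by
      rw [Module.End.one_apply]
      exact sub_eq_zero.1 (by rw [sub_eq_add_two]; exact hcon w))
  obtain ⟨y, ⟨hy0, w', hw'⟩, hmax⟩ := Set.exists_max_image
    {y : Q | y ≠ 0 ∧ ∃ w, y = σ a w + w} (fun y => {g ∈ (A : Set H) | σ g y = y}.ncard)
    (Set.toFinite _) ⟨_, hw, w, rfl⟩
  refine ⟨y, hy0, ⟨w', hw'⟩, fun g hg => ?_⟩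
  by_contra hgy
  have hcomm : ∀ h ∈ A, ∀ z, σ h (σ g z) = σ g (σ h z) := fun h hh z => by
    rw [app_app, app_app, hS.comm h hh g hg]
  have hy' : σ g y + y ≠ 0 := fun e => hgy (sub_eq_zero.1 (by rw [sub_eq_add_two]; exact e))
  have hle := hmax (σ g y + y) ⟨hy', σ g w' + w', by
    rw [hw', map_add, map_add, hcomm a ha w']; abel⟩
  refine absurd hle (not_le.2 (Set.ncard_lt_ncard ?_ (Set.toFinite _)))
  refine Set.ssubset_iff_exists.2 ⟨fun h hh => ⟨hh.1, ?_⟩, g, ⟨hg, ?_⟩, fun h => hgy h.2⟩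
  · rw [map_add, hcomm h hh.1, hh.2]
  · rw [map_add, app_app, hS.self_mul hg, map_one, Module.End.one_apply, add_comm]

/-- The coordinates of an orbit of length two. -/
structure Coord (σ : Representation (ZMod 2) H Q) (A K : Subgroup H) (a : H)
    (φ : kAlg σ K ≃ₗ[ZMod 2] Q) : Prop where
  one : ∀ g ∈ A, σ g (φ 1) = φ 1
  left : ∀ x y, φ (x * y) = (x : Module.End (ZMod 2) Q) (φ y)
  twist : ∀ k : K, ∀ x, σ (a * k * a⁻¹) (φ x) = φ (x * kHom σ K k⁻¹)
  central : ∀ w, ∀ k : K, σ (diag 2 a k) (σ a w + w) = σ a w + w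

theorem diag_two (a k : H) : diag 2 a k = k * (a * k * a⁻¹) := by
  simp [diag, orbProd_succ]

theorem Setting.exists_coord (hS : Setting σ A K) {a : H} (ha : a ∈ A) (haN : a ∉ stab A K)
    (hne : σ a ≠ 1) (htwo : ∀ g ∈ A, g ∉ stab A K → g * a ∈ stab A K)
    (hd : FixesDiag σ K a) : ∃ φ : kAlg σ K ≃ₗ[ZMod 2] Q, Coord σ A K a φ := by
  obtain ⟨v, hv0, ⟨w₀, hw₀⟩, hvA⟩ := hS.exists_fixed ha hne
  have hdv : ∀ w, ∀ k : K, σ (diag 2 a k) (σ a w + w) = σ a w + w := fun w k => by
    rw [← sub_eq_add_two]; exact hd k k.2 w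
  have hl : ∀ k ∈ K, σ (a * k * a⁻¹) v = σ k⁻¹ v := by
    intro k hk
    have h := congrArg (σ k⁻¹) (hdv w₀ ⟨k, hk⟩)
    rwa [← hw₀, diag_two, app_app, inv_mul_cancel_left] at h
  have hlc : ∀ k ∈ K, ∀ x ∈ kAlg σ K, ∀ z, σ (a * k * a⁻¹) (x z) = x (σ (a * k * a⁻¹) z) := by
    intro k hk x hx z
    rw [mem_kAlg] at hx
    induction hx using Submodule.span_induction with
    | mem y hy =>
      obtain ⟨m, hm, rfl⟩ := hy
      rw [app_app, app_app, (hS.commute ha haN hk hm).eq]
    | zero => simp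
    | add x y _ _ hx hy => rw [LinearMap.add_apply, LinearMap.add_apply, map_add, hx, hy]
    | smul c x _ hx => rw [LinearMap.smul_apply, LinearMap.smul_apply, map_smul, hx]
  let ψ : kAlg σ K →ₗ[ZMod 2] Q := (LinearMap.applyₗ v).comp (kAlg σ K).val.toLinearMap
  have hψ : ∀ x : kAlg σ K, ψ x = (x : Module.End (ZMod 2) Q) v := fun _ => rfl
  have hA : ∀ g ∈ A, ∀ k ∈ K, σ g (σ k v) ∈ LinearMap.range ψ := by
    intro g hg k hk
    by_cases hgN : g ∈ stab A K
    · have h : g * k * g⁻¹ ∈ K := (Subgroup.mem_normalizer_iff.1 hgN.2 k).1 hk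
      refine ⟨kHom σ K ⟨_, h⟩, ?_⟩
      rw [hψ, kHom_apply]
      conv_lhs => rw [← hvA g hg]
      rw [app_app, app_app, inv_mul_cancel_right]
    · set c := g * a
      have hc : c ∈ stab A K := htwo g hg hgN
      have h : c * k⁻¹ * c⁻¹ ∈ K := (Subgroup.mem_normalizer_iff.1 hc.2 _).1 (K.inv_mem hk)
      refine ⟨kHom σ K ⟨_, h⟩, ?_⟩
      rw [hψ, kHom_apply]
      have e : σ g (σ k v) = σ c (σ (a * k * a⁻¹) v) := by
        conv_lhs => rw [← hvA a ha]
        rw [app_app, app_app, app_app, hS.inv_eq ha]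
        congr 2
        calc g * k * a = g * (a * a) * (k * a) := by rw [hS.self_mul ha, mul_one, mul_assoc]
          _ = c * (a * k * a) := by simp only [c, mul_assoc]
      rw [e, hl k hk, app_app]
      show σ (c * k⁻¹ * c⁻¹) v = σ (c * k⁻¹) v
      conv_lhs => rw [← hvA c hc.1]
      rw [app_app, inv_mul_cancel_right]
  have hKinv : ∀ k ∈ K, ∀ y ∈ LinearMap.range ψ, σ k y ∈ LinearMap.range ψ := by
    rintro k hk _ ⟨x, rfl⟩
    exact ⟨kHom σ K ⟨k, hk⟩ * x, rfl⟩
  have hAinv : ∀ g ∈ A, ∀ y ∈ LinearMap.range ψ, σ g y ∈ LinearMap.range ψ := by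
    rintro g hg _ ⟨x, rfl⟩
    induction span_kHom x using Submodule.span_induction with
    | mem y hy => obtain ⟨k, rfl⟩ := hy; exact hA g hg k k.2
    | zero => simp
    | add x y _ _ hx hy => rw [map_add, map_add]; exact add_mem hx hy
    | smul c x _ hx => rw [map_smul, map_smul]; exact Submodule.smul_mem _ c hx
  have hrange : LinearMap.range ψ = ⊤ := by
    refine (hS.irred _ ?_).resolve_left fun h => hv0 ?_
    · intro h
      suffices hh : ∀ y ∈ LinearMap.range ψ,
          σ h y ∈ LinearMap.range ψ ∧ σ h⁻¹ y ∈ LinearMap.range ψ from fun y hy => (hh y hy).1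
      induction hS.gen h using Subgroup.closure_induction with
      | mem x hx =>
        rcases hx with hx | ⟨g, hg, k, hk, rfl⟩
        · exact fun y hy => ⟨hAinv x hx y hy, hAinv _ (A.inv_mem hx) y hy⟩
        · intro y hy
          have h1 := hKinv k hk _ (hAinv _ (A.inv_mem hg) y hy)
          have h2 := hKinv _ (K.inv_mem hk) _ (hAinv _ (A.inv_mem hg) y hy)
          constructor
          · have := hAinv g hg _ h1
            rwa [app_app, app_app] at this
          · have := hAinv g hg _ h2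
            rw [app_app, app_app] at this
            rwa [show (g * k * g⁻¹)⁻¹ = g * k⁻¹ * g⁻¹ by group]
      | one => simp
      | mul x y _ _ hx hy =>
        intro z hz
        constructor
        · rw [map_mul, Module.End.mul_apply]; exact (hx _ (hy z hz).1).1
        · rw [mul_inv_rev, map_mul, Module.End.mul_apply]; exact (hy _ (hx z hz).2).2
      | inv x _ hx => exact fun z hz => ⟨(hx z hz).2, by rw [inv_inv]; exact (hx z hz).1⟩
    · have : v ∈ LinearMap.range ψ := ⟨1, rfl⟩
      rwa [h, Submodule.mem_bot] at this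
  have hinj : Function.Injective ψ := by
    rw [← LinearMap.ker_eq_bot, eq_bot_iff]
    intro x hx
    rw [LinearMap.mem_ker, hψ] at hx
    rw [Submodule.mem_bot]
    refine Subtype.ext (LinearMap.ext fun z => ?_)
    obtain ⟨y, rfl⟩ := (hrange ▸ Submodule.mem_top : z ∈ LinearMap.range ψ)
    rw [hψ]
    show (x : Module.End (ZMod 2) Q) ((y : Module.End (ZMod 2) Q) v) = 0
    induction span_kHom y using Submodule.span_induction with
    | mem y hy =>
      obtain ⟨k, rfl⟩ := hy
      have e := hl (k : H)⁻¹ (K.inv_mem k.2)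
      rw [inv_inv] at e
      rw [kHom_apply, ← e, ← hlc _ (K.inv_mem k.2) _ x.2, hx, map_zero]
    | zero => simp
    | add y z _ _ hy hz => simp [hy, hz]
    | smul c y _ hy => simp [hy]
  let φ := LinearEquiv.ofBijective ψ ⟨hinj, LinearMap.range_eq_top.1 hrange⟩
  have hφ : ∀ x : kAlg σ K, φ x = (x : Module.End (ZMod 2) Q) v := fun _ => rfl
  refine ⟨φ, ?_, ?_, ?_, hdv⟩
  · intro g hg; rw [hφ]; exact hvA g hg
  · intro x y; rw [hφ, hφ]; rfl
  · intro k x
    rw [hφ, hφ, hlc k k.2 x x.2, hl k k.2]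
    rfl

/-- An endomorphism of the module in coordinates. -/
def coordEnd {σ : Representation (ZMod 2) H Q} {K : Subgroup H} (φ : kAlg σ K ≃ₗ[ZMod 2] Q)
    (e : Module.End (ZMod 2) Q) : kAlg σ K →ₗ[ZMod 2] kAlg σ K :=
  φ.symm.toLinearMap ∘ₗ e ∘ₗ φ.toLinearMap

theorem coordEnd_apply (φ : kAlg σ K ≃ₗ[ZMod 2] Q) (e : Module.End (ZMod 2) Q) (x : kAlg σ K) :
    φ (coordEnd φ e x) = e (φ x) := by
  simp [coordEnd]

section Coordinates

variable {a : H} {φ : kAlg σ K ≃ₗ[ZMod 2] Q} (hφ : Coord σ A K a φ)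
include hφ

theorem Coord.apply_kHom (k : K) : φ (kHom σ K k) = σ k (φ 1) := by
  rw [← mul_one (kHom σ K k), hφ.left]; rfl

theorem Coord.swap_kHom (ha : a ∈ A) (k : K) :
    coordEnd φ (σ a) (kHom σ K k) = kHom σ K k⁻¹ := φ.injective (by
  rw [coordEnd_apply, hφ.apply_kHom, ← one_mul (kHom σ K k⁻¹), ← hφ.twist k 1]
  conv_rhs => rw [← hφ.one a ha]
  rw [app_app, app_app, inv_mul_cancel_right])

theorem Coord.swap_mul (ha : a ∈ A) (x y : kAlg σ K) :
    coordEnd φ (σ a) (x * y) = coordEnd φ (σ a) y * coordEnd φ (σ a) x := by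
  induction span_kHom x using Submodule.span_induction with
  | mem u hu =>
    obtain ⟨k, rfl⟩ := hu
    induction span_kHom y using Submodule.span_induction with
    | mem u hu =>
      obtain ⟨m, rfl⟩ := hu
      rw [← map_mul, hφ.swap_kHom ha, hφ.swap_kHom ha, hφ.swap_kHom ha, mul_inv_rev, map_mul]
    | zero => simp
    | add u w _ _ hu hw => simp only [mul_add, map_add, add_mul, hu, hw]
    | smul c u _ hu => rw [mul_smul_comm, map_smul, map_smul, hu, smul_mul_assoc]
  | zero => simp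
  | add u w _ _ hu hw => simp only [add_mul, map_add, mul_add, hu, hw]
  | smul c u _ hu => rw [smul_mul_assoc, map_smul, map_smul, hu, mul_smul_comm]

theorem Coord.trace_apply (x : kAlg σ K) :
    φ (x + coordEnd φ (σ a) x) = σ a (φ x) + φ x := by
  rw [map_add, coordEnd_apply, add_comm]

theorem Coord.trace_fixed (hS : Setting σ A K) (ha : a ∈ A) (x : kAlg σ K) :
    coordEnd φ (σ a) (x + coordEnd φ (σ a) x) = x + coordEnd φ (σ a) x := φ.injective (by
  rw [coordEnd_apply, hφ.trace_apply, map_add, app_app, hS.self_mul ha, map_one,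
    Module.End.one_apply, add_comm])

theorem Coord.trace_central (x y : kAlg σ K) :
    Commute y (x + coordEnd φ (σ a) x) := by
  induction span_kHom y using Submodule.span_induction with
  | mem u hu =>
    obtain ⟨j, rfl⟩ := hu
    have h := hφ.central (φ x) j
    rw [← hφ.trace_apply, diag_two, map_mul, Module.End.mul_apply, hφ.twist] at h
    generalize x + coordEnd φ (σ a) x = t at h ⊢
    have h' : φ (kHom σ K j * (t * kHom σ K j⁻¹)) = φ t := by rw [hφ.left]; exact h
    have h'' := congrArg (· * kHom σ K j) (φ.injective h')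
    simp only [mul_assoc] at h''
    rw [← map_mul, inv_mul_cancel, map_one, mul_one] at h''
    exact h''
  | zero => exact Commute.zero_left _
  | add u w _ _ hu hw => exact hu.add_left hw
  | smul c u _ hu => exact hu.smul_left c

end Coordinates

/-- A short commutator space is impossible. -/
theorem Setting.pair_small_false (hS : Setting σ A K) {a : H} (ha : a ∈ A)
    (haN : a ∉ stab A K) (hne : σ a ≠ 1) (htwo : ∀ g ∈ A, g ∉ stab A K → g * a ∈ stab A K)
    (hd : FixesDiag σ K a)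
    (hsmall : ∀ w w', σ a w + w ≠ 0 → σ a w' + w' ≠ 0 → σ a w + w = σ a w' + w') : False := by
  obtain ⟨φ, hφ⟩ := hS.exists_coord ha haN hne htwo hd
  haveI := hS.quasi.1
  obtain ⟨k, hk, hk1⟩ := hS.nontriv
  haveI : Nontrivial (kAlg σ K) :=
    ⟨⟨kHom σ K ⟨k, hk⟩, 1, fun h => hk1 (congrArg Subtype.val h)⟩⟩
  haveI : CharP (kAlg σ K) 2 :=
    CharTwo.of_one_ne_zero_of_two_eq_zero one_ne_zero (by
      rw [show (2 : kAlg σ K) = 1 + 1 from one_add_one_eq_two.symm]; exact addSelf_two _)
  refine hk1 (congrArg Subtype.val (map_eq_one_of_pow_twelve (kHom σ K) (fun m => ?_) ⟨k, hk⟩))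
  set t := kHom σ K m + coordEnd φ (σ a) (kHom σ K m) with ht
  refine pow_twelve (l := kHom σ K m⁻¹) (s := t) (by rw [← map_mul, mul_inv_cancel, map_one])
    (by rw [ht, hφ.swap_kHom ha]) (hφ.trace_central _ _).symm ?_
  by_cases h0 : t * t = 0
  · exact Or.inl h0
  right
  have hts : coordEnd φ (σ a) t = t := hφ.trace_fixed hS ha _
  have hc : ∀ y, Commute y t := fun y => hφ.trace_central _ y
  have e : t * t = t * kHom σ K m + coordEnd φ (σ a) (t * kHom σ K m) := by
    rw [hφ.swap_mul ha, hts, (hc (coordEnd φ (σ a) (kHom σ K m))).eq, ← mul_add, ← ht]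
  refine φ.injective ?_
  rw [e, hφ.trace_apply, ht, hφ.trace_apply]
  refine hsmall _ _ (fun h => h0 (φ.injective ?_)) (fun h => h0 ?_)
  · rw [e, hφ.trace_apply, map_zero]; exact h
  · have ht0 : t = 0 := φ.injective (by rw [ht, hφ.trace_apply, map_zero]; exact h)
    rw [ht0, mul_zero]

/-- A quadratic normalizing family of half the offender's size is impossible. -/
theorem Setting.pair_false (hS : Setting σ A K) {a : H} (ha : a ∈ A)
    (haN : a ∉ stab A K) (hne : σ a ≠ 1) (htwo : ∀ g ∈ A, g ∉ stab A K → g * a ∈ stab A K)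
    (hd : FixesDiag σ K a) (B : Subgroup H) (hB : B ≤ stab A K)
    (hquad : ∀ b ∈ B, ∀ g ∈ A, (σ g - 1) * (σ b - 1) = 0) {b₀ : H} (hb₀ : b₀ ∈ B) (hb₀1 : σ b₀ ≠ 1)
    (hcount : Nat.card Q ≤ 2 * (σ '' B).ncard * Nat.card {x : Q // σ b₀ x = x}) : False := by
  classical
  obtain ⟨φ, hφ⟩ := hS.exists_coord ha haN hne htwo hd
  have hbk : ∀ b ∈ B, ∀ k : K, ∃ h : b * k * b⁻¹ ∈ K,
      coordEnd φ (σ b) (kHom σ K k) = kHom σ K ⟨_, h⟩ := by
    intro b hb k
    refine ⟨(Subgroup.mem_normalizer_iff.1 (hB hb).2 k).1 k.2, φ.injective ?_⟩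
    rw [coordEnd_apply, hφ.apply_kHom, hφ.apply_kHom]
    show σ b (σ k (φ 1)) = σ (b * k * b⁻¹) (φ 1)
    conv_rhs => rw [← hφ.one b (hB hb).1]
    rw [app_app, app_app, inv_mul_cancel_right]
  have hbmul : ∀ b ∈ B, ∀ x y, coordEnd φ (σ b) (x * y) = coordEnd φ (σ b) x * coordEnd φ (σ b) y := by
    intro b hb x y
    induction span_kHom x using Submodule.span_induction with
    | mem u hu =>
      obtain ⟨k, rfl⟩ := hu
      induction span_kHom y using Submodule.span_induction with
      | mem u hu =>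
        obtain ⟨m, rfl⟩ := hu
        obtain ⟨h1, e1⟩ := hbk b hb k
        obtain ⟨h2, e2⟩ := hbk b hb m
        obtain ⟨h3, e3⟩ := hbk b hb (k * m)
        rw [← map_mul, e1, e2, e3, ← map_mul]
        congr 1
        apply Subtype.ext
        show b * ((k : H) * m) * b⁻¹ = b * k * b⁻¹ * (b * m * b⁻¹)
        group
      | zero => simp
      | add u w _ _ hu hw => simp only [mul_add, map_add, hu, hw]
      | smul c u _ hu => rw [mul_smul_comm, map_smul, map_smul, hu, mul_smul_comm]
    | zero => simp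
    | add u w _ _ hu hw => simp only [add_mul, map_add, hu, hw]
    | smul c u _ hu => rw [smul_mul_assoc, map_smul, map_smul, hu, smul_mul_assoc]
  -- quadratic action in coordinates
  have hq' : ∀ g ∈ A, ∀ b ∈ B, ∀ z, σ g (σ b z + z) = σ b z + z := fun g hg b hb z => by
    have h := LinearMap.congr_fun (hquad b hb g hg) z
    simp only [Module.End.mul_apply, LinearMap.sub_apply, Module.End.one_apply,
      LinearMap.zero_apply, sub_eq_zero] at h
    rwa [← sub_eq_add_two]
  have hab : ∀ b ∈ B, ∀ z, σ b (σ a z + z) = σ a z + z := fun b hb z => by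
    have h := hq' a ha b hb z
    rw [map_add, app_app, hS.comm a ha b (hB hb).1, ← app_app] at h
    rw [map_add]
    calc σ b (σ a z) + σ b z = (σ b (σ a z) + σ a z) + (σ a z + σ b z) := by
          rw [show (σ b (σ a z) + σ a z) + (σ a z + σ b z) =
            (σ a z + σ a z) + (σ b (σ a z) + σ b z) by abel, addSelf_two, zero_add]
      _ = (σ b z + z) + (σ a z + σ b z) := by rw [h]
      _ = (σ b z + σ b z) + (σ a z + z) := by abel
      _ = _ := by rw [addSelf_two, zero_add]
  -- the central scalars fixed by everything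
  let Z : Subalgebra (ZMod 2) (kAlg σ K) :=
    { carrier := {z | (∀ y, Commute y z) ∧ coordEnd φ (σ a) z = z ∧
        ∀ b ∈ B, coordEnd φ (σ b) z = z}
      mul_mem' := fun {z w} hz hw => ⟨fun y => (hz.1 y).mul_right (hw.1 y), by
          rw [hφ.swap_mul ha, hz.2.1, hw.2.1, (hz.1 w).eq], fun b hb => by
          rw [hbmul b hb, hz.2.2 b hb, hw.2.2 b hb]⟩
      add_mem' := fun {z w} hz hw => ⟨fun y => (hz.1 y).add_right (hw.1 y),
        by rw [map_add, hz.2.1, hw.2.1], fun b hb => by rw [map_add, hz.2.2 b hb, hw.2.2 b hb]⟩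
      algebraMap_mem' := fun c => by
        refine ⟨fun y => Algebra.commute_algebraMap_right c y, ?_, fun b hb => ?_⟩
        · rw [Algebra.algebraMap_eq_smul_one, map_smul, ← map_one (kHom σ K), hφ.swap_kHom ha,
            inv_one]
        · obtain ⟨h, e⟩ := hbk b hb 1
          rw [Algebra.algebraMap_eq_smul_one, map_smul, ← map_one (kHom σ K), e]
          congr 2
          apply Subtype.ext
          simp }
  letI : CommRing Z := { Z.toRing with mul_comm := fun z w => Subtype.ext ((w.2.1 z).eq) }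
  let incl : Z →+* kAlg σ K := Z.val.toRingHom
  letI : Algebra Z (kAlg σ K) := incl.toAlgebra' fun z x => (z.2.1 x).symm.eq
  letI : Module Z (kAlg σ K) := Algebra.toModule
  have hlin : ∀ (f : kAlg σ K →ₗ[ZMod 2] kAlg σ K), (∀ (z : Z) x, f (incl z * x) = incl z * f x) →
      ∃ g : kAlg σ K →ₗ[Z] kAlg σ K, ∀ x, g x = f x := fun f hf =>
    ⟨{ toFun := f, map_add' := map_add f, map_smul' := fun z x => hf z x }, fun _ => rfl⟩
  obtain ⟨S, hS'⟩ := hlin (coordEnd φ (σ a)) fun z x => by
    rw [hφ.swap_mul ha, show coordEnd φ (σ a) (incl z) = incl z from z.2.2.1]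
    exact (z.2.1 _).eq
  let ι := ↥(σ '' (B : Set H))
  have hfam : ∀ i : ι, ∃ g : kAlg σ K →ₗ[Z] kAlg σ K, ∀ x, g x = coordEnd φ (i : Module.End (ZMod 2) Q) x := by
    rintro ⟨_, b, hb, rfl⟩
    exact hlin _ fun z x => by
      rw [hbmul b hb, show coordEnd φ (σ b) (incl z) = incl z from z.2.2.2 b hb]
  choose f hf using hfam
  haveI : Finite (Module.End (ZMod 2) Q) :=
    Finite.of_injective (fun e => (⇑e : Q → Q)) DFunLike.coe_injective
  haveI : Finite (kAlg σ K) := Finite.of_injective _ Subtype.val_injective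
  haveI : Finite Z := Finite.of_injective _ Subtype.val_injective
  refine quadratic_family_false (Z := Z) (R := kAlg σ K) ?_ (fun x => addSelf_two x) (kHom σ K)
    hS.quasi ?_ ?_ S ?_ ?_ ?_ f ?_ ?_ ?_ ?_ ?_ ⟨σ b₀, b₀, hb₀, rfl⟩ ?_ ?_
  · exact fun z w h => Subtype.ext h
  · obtain ⟨k, hk, hne⟩ := hS.nontriv
    exact ⟨⟨k, hk⟩, fun h => hne (congrArg Subtype.val h)⟩
  · intro x
    induction span_kHom x using Submodule.span_induction with
    | mem u hu => exact Submodule.subset_span hu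
    | zero => exact zero_mem _
    | add u w _ _ hu hw => exact add_mem hu hw
    | smul c u _ hu =>
      rw [Algebra.smul_def]
      exact Submodule.smul_mem _ (algebraMap (ZMod 2) Z c) hu
  · intro x y; rw [hS', hS', hS', hφ.swap_mul ha]
  · intro k; rw [hS', hφ.swap_kHom ha]
  · intro x
    refine ⟨⟨x + coordEnd φ (σ a) x, fun y => hφ.trace_central x y, hφ.trace_fixed hS ha x,
      fun b hb => ?_⟩, by rw [hS']; rfl⟩
    refine φ.injective ?_
    rw [coordEnd_apply, hφ.trace_apply, hab b hb]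
  · intro i j h
    refine Subtype.ext (LinearMap.ext fun q => ?_)
    obtain ⟨x, rfl⟩ := φ.surjective q
    rw [← coordEnd_apply, ← coordEnd_apply, ← hf, ← hf, h]
  · rintro ⟨_, b, hb, rfl⟩ x y
    simp only [hf, hbmul b hb]
  · rintro ⟨_, b, hb, rfl⟩
    have hn := fun k : K => (Subgroup.mem_normalizer_iff.1 (hB hb).2 k).1 k.2
    refine ⟨MonoidHom.mk' (fun k => ⟨b * k * b⁻¹, hn k⟩) (fun k m => Subtype.ext (by
      show b * ((k : H) * m) * b⁻¹ = b * k * b⁻¹ * (b * m * b⁻¹)
      group)), fun k => ?_⟩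
    obtain ⟨h, e⟩ := hbk b hb k
    rw [hf, e]; rfl
  · rintro ⟨_, b, hb, rfl⟩ ⟨_, c, hc, rfl⟩ x
    refine φ.injective ?_
    simp only [hf, coordEnd_apply, map_add]
    rw [← map_add, hq' b (hB hb).1 c hc]
  · rintro ⟨_, b, hb, rfl⟩ x
    refine φ.injective ?_
    simp only [hS', hf, coordEnd_apply, map_add]
    rw [← map_add, hq' a ha b hb]
  · obtain ⟨q, hq⟩ : ∃ q, σ b₀ q ≠ q := by
      by_contra hcon
      push Not at hcon
      exact hb₀1 (LinearMap.ext hcon)
    refine ⟨φ.symm q, fun e => hq ?_⟩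
    have := congrArg φ e
    rwa [hf, coordEnd_apply, φ.apply_symm_apply] at this
  · rw [Nat.card_congr φ.toEquiv, Nat.card_coe_set_eq]
    refine hcount.trans (le_of_eq ?_)
    congr 1
    refine Nat.card_congr (Equiv.subtypeEquiv φ.toEquiv.symm fun q => ?_)
    rw [hf]
    constructor
    · intro h
      refine φ.injective ?_
      rw [coordEnd_apply]
      simpa using h
    · intro h
      have := congrArg φ h
      rw [coordEnd_apply] at this
      simpa using this

end CfsgLib.Offender
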