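import Cfsg.Agent.Offender.Odd
import Cfsg.Agent.Offender.Pair
import Cfsg.Agent.Offender.Replacement

/-!
# Best offenders normalize components
-/

set_option autoImplicit false
set_option linter.style.haveILetI false
set_option linter.unusedSectionVars false

namespace CfsgLib.Offender

variable {p : ℕ} [Fact p.Prime] {H W : Type*} [Group H] [Finite H] [AddCommGroup W] [Finite W]
  [Module (ZMod p) W]

theorem Setting.stab_fix_invariant {σ : Representation (ZMod p) H W} {A K : Subgroup H}
    {g : H} (hg : g ∈ stab A K) {w : W} (hw : ∀ m ∈ K, σ m w = w) :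
    ∀ m ∈ K, σ m (σ g w) = σ g w := by
  intro m hm
  have h1 : g⁻¹ * m * g ∈ K := by
    have := (Subgroup.mem_normalizer_iff.1 ((Subgroup.normalizer _).inv_mem hg.2) m).1 hm
    rwa [inv_inv] at this
  rw [apply_apply, show m * g = g * (g⁻¹ * m * g) by group, map_mul, Module.End.mul_apply, hw _ h1]

/-- The irreducible quotient carries a best offender which must normalize `K`. -/
theorem minimal_offender_false (τ : Representation (ZMod p) H W) {A K : Subgroup H}
    (hcomm : ∀ a ∈ A, ∀ b ∈ A, a * b = b * a) (hpow : ∀ a ∈ A, a ^ p = 1)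
    (hq : Cfsg.IsQuasisimple K)
    (horbit : ∀ g ∈ A, (∀ k ∈ K, g * k * g⁻¹ ∈ K) ∨ ∀ k ∈ K, ∀ m ∈ K, Commute (g * k * g⁻¹) m)
    (hgen : ∀ h : H, h ∈ Subgroup.closure {x : H | x ∈ A ∨ ∃ g ∈ A, ∃ k ∈ K, x = g * k * g⁻¹})
    (hmin : ∀ M : Submodule (ZMod p) W, (∀ h : H, ∀ w ∈ M, τ h w ∈ M) →
      (∀ k ∈ K, ∀ w ∈ M, τ k w = w) ∨ M = ⊤)
    (hnt : ∃ k ∈ K, τ k ≠ 1) (hbest : Best τ A) {a : H} (ha : a ∈ A) (haN : a ∉ stab A K) :
    False := by
  classical
  haveI := hq.1
  have hp : p.Prime := Fact.out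
  set gens := {x : H | ∃ g ∈ A, ∃ k ∈ K, x = g * k * g⁻¹}
  set E := Subgroup.closure gens with hE
  have hKgens : ∀ k ∈ K, k ∈ gens := fun k hk => ⟨1, A.one_mem, k, hk, by simp⟩
  haveI hEn : E.Normal := by
    rw [← Subgroup.normalizer_eq_top_iff, eq_top_iff]
    intro h ht
    clear ht
    induction hgen h using Subgroup.closure_induction with
    | mem x hx =>
      rcases hx with hx | hx
      · apply Subgroup.mem_normalizer_fintype
        intro y hy
        have : E ≤ E.comap (MulAut.conj x).toMonoidHom := by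
          rw [hE, Subgroup.closure_le]
          rintro _ ⟨g, hg, k, hk, rfl⟩
          refine Subgroup.subset_closure ⟨x * g, A.mul_mem hx hg, k, hk, ?_⟩
          show x * (g * k * g⁻¹) * x⁻¹ = _
          group
        exact this hy
      · exact Subgroup.le_normalizer (Subgroup.subset_closure hx)
    | one => exact one_mem _
    | mul x y _ _ hx hy => exact mul_mem hx hy
    | inv x _ hx => exact inv_mem hx
  -- the fixed points
  let U : Submodule (ZMod p) W :=
    { carrier := {w | ∀ e ∈ E, τ e w = w}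
      zero_mem' := fun e _ => map_zero _
      add_mem' := fun {x y} hx hy e he => by rw [map_add, hx e he, hy e he]
      smul_mem' := fun c x hx e he => by rw [map_smul, hx e he] }
  have hUinv : ∀ h : H, ∀ w ∈ U, τ h w ∈ U := fun h w hw e he => by
    rw [apply_apply, show e * h = h * (h⁻¹ * e * h) by group, map_mul, Module.End.mul_apply,
      hw (h⁻¹ * e * h) (by simpa using hEn.conj_mem e he h⁻¹)]
  have hKU : ∀ M : Submodule (ZMod p) W, (∀ h : H, ∀ w ∈ M, τ h w ∈ M) →
      (∀ k ∈ K, ∀ w ∈ M, τ k w = w) → M ≤ U := by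
    intro M hM hK w hw e he
    induction he using Subgroup.closure_induction generalizing w with
    | mem x hx =>
      obtain ⟨g, hg, k, hk, rfl⟩ := hx
      rw [map_mul, map_mul, Module.End.mul_apply, Module.End.mul_apply, hK k hk _ (hM _ w hw),
        apply_apply, mul_inv_cancel, map_one, Module.End.one_apply]
    | one => simp
    | mul x y _ _ hx hy => rw [map_mul, Module.End.mul_apply, hy hw, hx hw]
    | inv x _ hx =>
      conv_lhs => rw [← hx hw]
      rw [apply_apply, inv_mul_cancel, map_one, Module.End.one_apply]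
  -- the commutator space is everything
  set M₁ := Submodule.span (ZMod p) {y : W | ∃ e ∈ E, ∃ w, y = τ e w - w}
  have hM₁ : M₁ = ⊤ := by
    refine (hmin M₁ ?_).resolve_left fun hfix => ?_
    · intro h y hy
      induction hy using Submodule.span_induction with
      | mem z hz =>
        obtain ⟨e, he, w, rfl⟩ := hz
        refine Submodule.subset_span ⟨h * e * h⁻¹, hEn.conj_mem e he h, τ h w, ?_⟩
        rw [map_sub, apply_apply, apply_apply, inv_mul_cancel_right]
      | zero => simp
      | add x y _ _ hx hy => rw [map_add]; exact add_mem hx hy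
      | smul c x _ hx => rw [map_smul]; exact Submodule.smul_mem _ c hx
    · obtain ⟨k, hk, hk1⟩ := hnt
      let γ : K →* Module.End (ZMod p) W := (τ : H →* _).comp K.subtype
      refine hk1 (show (⟨k, hk⟩ : K) ∈ γ.ker from perfect_le γ.ker (fun g m => ?_) _)
      have hc : ∀ g m : K, γ g * γ m = γ g + γ m - 1 := fun g m => LinearMap.ext fun w => by
        have h1 := hfix g g.2 (τ (m : H) w - w) (Submodule.subset_span
          ⟨m, Subgroup.subset_closure (hKgens m m.2), w, rfl⟩)
        rw [map_sub] at h1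
        show τ (g : H) (τ (m : H) w) = τ (g : H) w + τ (m : H) w - w
        rw [← sub_eq_zero, ← sub_eq_zero.2 h1]
        abel
      rw [MonoidHom.mem_ker, map_mul, map_mul, map_mul, hc g m, add_comm (γ g), ← hc m g,
        mul_assoc (γ m), ← map_mul, mul_inv_cancel, map_one, mul_one, ← map_mul, mul_inv_cancel,
        map_one]
  let σ : Representation (ZMod p) H (W ⧸ U) :=
    { toFun := fun h => U.mapQ U (τ h) fun w hw => hUinv h w hw
      map_one' := Submodule.linearMap_qext _ (by ext w; simp)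
      map_mul' := fun g h => Submodule.linearMap_qext _ (by ext w; simp) }
  have hσ : ∀ h w, σ h (Submodule.Quotient.mk w) = Submodule.Quotient.mk (τ h w) := fun _ _ => rfl
  have hσ1 : ∀ h, σ h = 1 → ∀ w, τ h w - w ∈ U := fun h hh w => by
    rw [← Submodule.Quotient.eq, ← hσ, hh]; rfl
  haveI : Finite (W ⧸ U) := Finite.of_surjective _ (Submodule.Quotient.mk_surjective U)
  have hU : U ≠ ⊤ := fun h => by
    obtain ⟨k, hk, hk1⟩ := hnt
    exact hk1 (LinearMap.ext fun w =>
      (h ▸ Submodule.mem_top : w ∈ U) k (Subgroup.subset_closure (hKgens k hk)))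
  have hσnt : ∃ k ∈ K, σ k ≠ 1 := by
    by_contra hcon
    push Not at hcon
    apply hU
    rw [eq_top_iff, ← hM₁, Submodule.span_le]
    rintro _ ⟨e, he, w, rfl⟩
    have hEσ : σ e = 1 := by
      induction he using Subgroup.closure_induction with
      | mem x hx =>
        obtain ⟨g, hg, k, hk, rfl⟩ := hx
        rw [map_mul, map_mul, hcon k hk, mul_one, ← map_mul, mul_inv_cancel, map_one]
      | one => exact map_one _
      | mul x y _ _ hx hy => rw [map_mul, hx, hy, one_mul]
      | inv x _ hx =>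
        have h1 : σ x⁻¹ * σ x = 1 := by rw [← map_mul, inv_mul_cancel, map_one]
        rwa [hx, mul_one] at h1
    exact hσ1 e hEσ w
  have hgen' : ∀ h : H, h ∈ Subgroup.closure {x : H | x ∈ A ∨ ∃ g ∈ A, ∃ k ∈ K, x = g * k * g⁻¹} := hgen
  have hS : Setting σ A K :=
    { comm := hcomm
      pow := hpow
      quasi := hq
      orbit := horbit
      gen := hgen'
      irred := fun M hM => by
        have hinv : ∀ h : H, ∀ w ∈ M.comap U.mkQ, τ h w ∈ M.comap U.mkQ := fun h w hw => hM h _ hw
        rcases hmin _ hinv with h | h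
        · left
          rw [eq_bot_iff]
          intro y hy
          obtain ⟨w, rfl⟩ := Submodule.Quotient.mk_surjective U y
          rw [Submodule.mem_bot, Submodule.Quotient.mk_eq_zero]
          exact hKU _ hinv h hy
        · right
          rw [eq_top_iff]
          intro y _
          obtain ⟨w, rfl⟩ := Submodule.Quotient.mk_surjective U y
          exact (h ▸ Submodule.mem_top : w ∈ M.comap U.mkQ)
      nontriv := hσnt }
  -- elements trivial on the quotient are trivial
  have hEnorm : E ≤ Subgroup.normalizer (K : Set H) := by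
    rw [hE, Subgroup.closure_le]
    rintro _ ⟨g, hg, k, hk, rfl⟩
    apply Subgroup.mem_normalizer_fintype
    intro m hm
    rcases horbit g hg with h | h
    · exact K.mul_mem (K.mul_mem (h k hk) hm) (K.inv_mem (h k hk))
    · show g * k * g⁻¹ * m * (g * k * g⁻¹)⁻¹ ∈ K
      rw [(h k hk m hm).eq, mul_inv_cancel_right]; exact hm
  have hKc : ∀ n ∈ E, σ n = 1 → ∀ k ∈ K, n * k * n⁻¹ = k := by
    intro n hn hn1 k hk
    have hn' := fun m : K => (Subgroup.mem_normalizer_iff.1 (hEnorm hn) m).1 m.2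
    let ψ : K →* K := MonoidHom.mk' (fun m => ⟨n * m * n⁻¹, hn' m⟩) fun m l => Subtype.ext (by
      show n * ((m : H) * l) * n⁻¹ = n * m * n⁻¹ * (n * l * n⁻¹); group)
    let N : Subgroup K := ((σ : H →* _).comp K.subtype).ker
    have hN : N ≤ Subgroup.center K :=
      (CfsgLib.Comp.quasisimple_normal hq (inferInstance : N.Normal)).resolve_left fun h => by
        obtain ⟨j, hj, hj1⟩ := hσnt
        exact hj1 (h ▸ Subgroup.mem_top (⟨j, hj⟩ : K) : (⟨j, hj⟩ : K) ∈ N)
    refine congrArg Subtype.val (eq_self_of_central ψ (fun m => hN ?_) ⟨k, hk⟩)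
    show σ (n * m * n⁻¹ * (m : H)⁻¹) = 1
    have hn2 : σ n⁻¹ = 1 := by
      have h1 : σ n⁻¹ * σ n = 1 := by rw [← map_mul, inv_mul_cancel, map_one]
      rwa [hn1, mul_one] at h1
    rw [map_mul, map_mul, map_mul, hn1, hn2, one_mul, mul_one, ← map_mul, mul_inv_cancel, map_one]
  have hkill : ∀ h : H, σ h = 1 → (∀ e ∈ E, ∀ w, τ h (τ e w) = τ e (τ h w)) → τ h = 1 := by
    intro h hh hc
    refine LinearMap.ext fun w => ?_
    have hw : w ∈ M₁ := hM₁ ▸ Submodule.mem_top
    induction hw using Submodule.span_induction with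
    | mem z hz =>
      obtain ⟨e, he, v, rfl⟩ := hz
      have h1 := hσ1 h hh v e he
      rw [map_sub] at h1
      rw [map_sub, hc e he, Module.End.one_apply, ← sub_eq_zero, ← sub_eq_zero.2 h1]
      abel
    | zero => simp
    | add x y _ _ hx hy => rw [map_add, hx, hy, map_add]
    | smul c x _ hx => rw [map_smul, hx, map_smul]
  have hN1 : ∀ n ∈ E, σ n = 1 → τ n = 1 := by
    intro n hn hn1
    refine hkill n hn1 fun e he w => ?_
    suffices hcm : Commute n e by rw [apply_apply, apply_apply, hcm.eq]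
    induction he using Subgroup.closure_induction with
    | mem x hx =>
      obtain ⟨g, hg, k, hk, rfl⟩ := hx
      have h1 := hKc (g⁻¹ * n * g) (by simpa using hEn.conj_mem n hn g⁻¹) (by
        rw [map_mul, map_mul, hn1, mul_one, ← map_mul, inv_mul_cancel, map_one]) k hk
      show n * (g * k * g⁻¹) = g * k * g⁻¹ * n
      calc n * (g * k * g⁻¹) = g * (g⁻¹ * n * g * k * (g⁻¹ * n * g)⁻¹) * g⁻¹ * n := by group
        _ = _ := by rw [h1]
    | one => exact Commute.one_right n
    | mul x y _ _ hx hy => exact hx.mul_right hy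
    | inv x _ hx => exact hx.inv_right
  have hlift : ∀ h : H, σ h = 1 → τ h = 1 := by
    intro h hh
    refine hkill h hh fun e he w => ?_
    have hh' : σ h⁻¹ = 1 := by
      have h1 : σ h⁻¹ * σ h = 1 := by rw [← map_mul, inv_mul_cancel, map_one]
      rwa [hh, mul_one] at h1
    have h1 := hN1 (h * e * h⁻¹ * e⁻¹) (E.mul_mem (hEn.conj_mem e he h) (E.inv_mem he)) (by
      rw [map_mul, map_mul, map_mul, hh, hh', one_mul, mul_one, ← map_mul, mul_inv_cancel, map_one])
    rw [apply_apply, apply_apply, show h * e = (h * e * h⁻¹ * e⁻¹) * (e * h) by group, map_mul, h1,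
      one_mul]
  -- the replacement
  have haσ : ∀ g ∈ A, g ∉ stab A K → σ g ≠ 1 := fun g hg hgN h1 =>
    hgN (hS.mem_stab_of_commute hg fun k _ => by rw [map_mul, map_mul, h1, one_mul, mul_one])
  obtain ⟨T, hTA, hTmax, hTquad, b, hbT, hb1⟩ := exists_quadratic_offender hbest hcomm
    (fun g hg => ⟨1, by rw [pow_one]; exact hpow g hg⟩)
    ⟨a, ha, fun h => haσ a ha haN (LinearMap.ext fun y => by
      obtain ⟨w, rfl⟩ := Submodule.Quotient.mk_surjective U y
      rw [hσ, h]; rfl)⟩
  have hquad : ∀ c ∈ T, ∀ g ∈ A, (σ g - 1) * (σ c - 1) = 0 := fun c hc g hg =>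
    LinearMap.ext fun y => by
      obtain ⟨w, rfl⟩ := Submodule.Quotient.mk_surjective U y
      have := LinearMap.congr_fun (hTquad c hc g hg) w
      simp only [Module.End.mul_apply, LinearMap.sub_apply, Module.End.one_apply,
        LinearMap.zero_apply] at this ⊢
      rw [hσ, ← Submodule.Quotient.mk_sub, hσ, ← Submodule.Quotient.mk_sub, this,
        Submodule.Quotient.mk_zero]
  have hquad' : ∀ c ∈ T, ∀ g ∈ A, (σ c - 1) * (σ g - 1) = 0 := fun c hc g hg => by
    have e : Commute (σ c - 1) (σ g - 1) := by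
      refine (Commute.sub_left ?_ (Commute.one_left _)).sub_right (Commute.one_right _)
      show σ c * σ g = σ g * σ c
      rw [← map_mul, ← map_mul, hcomm c (hTA hc) g hg]
    rw [e.eq]; exact hquad c hc g hg
  have hbσ : σ b ≠ 1 := fun h => hb1 (hlift b h)
  have hstabd : ∀ c ∈ T, c ∈ stab A K → σ c ≠ 1 → ∀ g ∈ A, g ∉ stab A K → FixesDiag σ K g :=
    fun c hc hcs hc1 g hg hgN => hS.fixesDiag_of_stab hg hgN hcs hc1 (hquad' c hc g hg)
  have hzero : (∀ g ∈ A, g ∉ stab A K → FixesDiag σ K g) →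
      ∀ v, (∀ m ∈ K, σ m v = v) → v = 0 := fun hd v hv =>
    hS.fix_eq_zero (fun g hg w hw => by
      by_cases hgN : g ∈ stab A K
      · exact Setting.stab_fix_invariant hgN hw
      · exact hS.fix_invariant hg hgN (hd g hg hgN) hw) hv
  by_cases hp2 : p = 2
  swap
  · by_cases hcase : ∀ c ∈ T, c ∈ stab A K
    · have hd := hstabd b hbT (hcase b hbT) hbσ
      exact hS.odd_false hp2 ha haN (Or.inr ⟨hd a ha haN, hzero hd⟩)
    · push Not at hcase
      obtain ⟨c, hc, hcN⟩ := hcase
      exact hS.odd_false hp2 (hTA hc) hcN (Or.inl (hquad c hc c (hTA hc)))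
  subst hp2
  haveI : Fact (2 = 2) := ⟨rfl⟩
  have hsq : ∀ g ∈ A, g * g = 1 := fun g hg => hS.self_mul hg
  have hor : (∃ c ∈ T, c ∈ stab A K ∧ σ c ≠ 1) ∨
      (∀ c ∈ T, c ∈ stab A K → σ c = 1) := by
    by_cases h : ∃ c ∈ T, c ∈ stab A K ∧ σ c ≠ 1
    · exact Or.inl h
    · push Not at h; exact Or.inr h
  by_cases hfour : ∃ u ∈ A, u ∉ stab A K ∧ ∃ c ∈ A, c ∉ stab A K ∧ u * c ∉ stab A K
  · obtain ⟨u, hu, huN, c, hc, hcN, hucN⟩ := hfour
    rcases hor with ⟨d, hd, hds, hd1⟩ | htriv
    · exact hS.four_false hu huN hc hcN hucN (hstabd d hd hds hd1 u hu huN)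
        (hzero (hstabd d hd hds hd1))
    · have hbN : b ∉ stab A K := fun h => hbσ (htriv b hbT h)
      obtain ⟨u', hu', hu'N, hu'b⟩ : ∃ u' ∈ A, u' ∉ stab A K ∧ u' * b ∉ stab A K := by
        by_cases hub : u * b ∈ stab A K
        · refine ⟨c, hc, hcN, fun h => hucN ?_⟩
          have := (stab A K).mul_mem hub h
          rwa [show u * b * (c * b) = u * c * (b * b) by
            rw [mul_assoc u b, ← mul_assoc b c, hcomm b (hTA hbT) c hc, mul_assoc c, ← mul_assoc],
            hsq b (hTA hbT), mul_one] at this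
        · exact ⟨u, hu, huN, hub⟩
      have hmove : ∀ g ∈ A, g ∉ stab A K → g * b ∉ stab A K → FixesDiag σ K g := by
        intro g hg hgN hgb
        refine hS.fixesDiag_of_move hg hgN (hTA hbT) (fun i => ?_) (hquad' b hbT g hg)
        rw [pow_eq_pow_mod i (hS.pow g hg)]
        rcases Nat.mod_two_eq_zero_or_one i with h | h <;> rw [h]
        · simpa using hbN
        · simpa using hgb
      have hfix : ∀ v, (∀ m ∈ K, σ m v = v) → v = 0 := fun v hv =>
        hS.fix_eq_zero (fun g hg w hw => by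
          by_cases hgN : g ∈ stab A K
          · exact Setting.stab_fix_invariant hgN hw
          by_cases hgb : g * b ∈ stab A K
          · have h1 : g * u' ∉ stab A K := fun h => hu'b (by
              have := (stab A K).mul_mem ((stab A K).inv_mem h) hgb
              rwa [mul_inv_rev, mul_assoc, inv_mul_cancel_left, hS.inv_eq hu'] at this)
            have h2 : g * u' * b ∉ stab A K := fun h => hu'N (by
              have := (stab A K).mul_mem ((stab A K).inv_mem hgb) h
              rwa [mul_assoc g u' b, hcomm u' hu' b (hTA hbT), ← mul_assoc g b u',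
                inv_mul_cancel_left] at this)
            have e : σ g w = σ (g * u') (σ u' w) := by
              rw [apply_apply, mul_assoc, hsq u' hu', mul_one]
            rw [e]
            exact hS.fix_invariant (A.mul_mem hg hu') h1 (hmove _ (A.mul_mem hg hu') h1 h2)
              (hS.fix_invariant hu' hu'N (hmove u' hu' hu'N hu'b) hw)
          · exact hS.fix_invariant hg hgN (hmove g hg hgN hgb) hw) hv
      exact hS.four_false hu' hu'N (hTA hbT) hbN hu'b (hmove u' hu' hu'N hu'b) hfix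
  push Not at hfour
  -- the numerical information
  let Ker : Subgroup H := A ⊓ (τ : H →* _).ker
  have hfixtop : fixSpace τ (Ker : Set H) = ⊤ := eq_top_iff.2 fun v _ =>
    mem_fixSpace.2 fun g hg => by rw [show τ g = 1 from hg.2]; rfl
  have hCW : Nat.card W * Nat.card ↥(T ⊓ (τ : H →* _).ker) ≤
      Nat.card T * Nat.card (fixSpace τ (T : Set H)) := by
    refine le_trans ?_ ((hbest Ker inf_le_left).trans hTmax)
    rw [hfixtop, mul_comm (Nat.card W)]
    refine Nat.mul_le_mul (Nat.card_mono (Set.toFinite _) ?_) (le_of_eq ?_)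
    · exact fun g hg => ⟨hTA hg.1, hg.2⟩
    · exact (Nat.card_congr (Submodule.topEquiv (R := ZMod 2) (M := W)).toEquiv).symm
  have himg : (σ '' (T : Set H)).ncard * Nat.card ↥(T ⊓ (τ : H →* _).ker) = Nat.card T := by
    let f : T →* Module.End (ZMod 2) (W ⧸ U) := (σ : H →* _).comp T.subtype
    have h1 := (Subgroup.card_eq_card_quotient_mul_card_subgroup f.toHomUnits.ker).symm
    rw [Nat.card_congr (QuotientGroup.quotientKerEquivRange f.toHomUnits).toEquiv] at h1
    have h2 : Nat.card f.toHomUnits.range = (σ '' (T : Set H)).ncard := by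
      rw [← Nat.card_coe_set_eq]
      refine Nat.card_congr (Equiv.ofBijective (fun x => ⟨((x : (Module.End (ZMod 2) (W ⧸ U))ˣ) : _), ?_⟩) ⟨?_, ?_⟩)
      · obtain ⟨t, ht⟩ := x.2
        exact ⟨t, t.2, by rw [← ht]; rfl⟩
      · exact fun x y h => Subtype.ext (Units.ext (congrArg Subtype.val h))
      · rintro ⟨_, t, ht, rfl⟩
        exact ⟨⟨f.toHomUnits ⟨t, ht⟩, ⟨t, ht⟩, rfl⟩, rfl⟩
    have h3 : Nat.card f.toHomUnits.ker = Nat.card ↥(T ⊓ (τ : H →* _).ker) := by
      refine Nat.card_congr (Equiv.ofBijective (fun x => ⟨(x.1 : H), x.1.2, ?_⟩) ⟨?_, ?_⟩)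
      · exact hlift _ (congrArg Units.val (MonoidHom.mem_ker.1 x.2))
      · exact fun x y h => Subtype.ext (Subtype.ext (congrArg (fun z : ↥(T ⊓ _) => (z : H)) h))
      · rintro ⟨t, ht, ht'⟩
        refine ⟨⟨⟨t, ht⟩, MonoidHom.mem_ker.2 (Units.ext ?_)⟩, rfl⟩
        refine LinearMap.ext fun y => ?_
        obtain ⟨w, rfl⟩ := Submodule.Quotient.mk_surjective U y
        show σ t _ = _
        rw [hσ, show τ t = 1 from ht']; rfl
    rw [← h2, ← h3]; exact h1
  have hW : Nat.card W ≤ (σ '' (T : Set H)).ncard * Nat.card (fixSpace τ (T : Set H)) := by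
    rw [← himg] at hCW
    refine Nat.le_of_mul_le_mul_right (hCW.trans (le_of_eq ?_))
      (Nat.card_pos (α := ↥(T ⊓ (τ : H →* _).ker)))
    ring
  have hhalf : ∀ t ∈ T, t ∉ stab A K →
      (σ '' (T : Set H)).ncard ≤ 2 * (σ '' ((T ⊓ stab A K : Subgroup H) : Set H)).ncard := by
    intro t ht htN
    set S' := σ '' ((T ⊓ stab A K : Subgroup H) : Set H)
    have : σ '' (T : Set H) ⊆ S' ∪ (σ t * ·) '' S' := by
      rintro _ ⟨g, hg, rfl⟩
      by_cases hgN : g ∈ stab A K
      · exact Or.inl ⟨g, ⟨hg, hgN⟩, rfl⟩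
      · refine Or.inr ⟨σ (t * g), ⟨t * g, ⟨T.mul_mem ht hg,
          hfour t (hTA ht) htN g (hTA hg) hgN⟩, rfl⟩, ?_⟩
        dsimp only
        rw [← map_mul, ← mul_assoc, hsq t (hTA ht), one_mul]
    refine (Set.ncard_le_ncard this (Set.toFinite _)).trans ((Set.ncard_union_le _ _).trans ?_)
    have := Set.ncard_image_le (s := S') (f := (σ t * ·)) (Set.toFinite _)
    omega
  have htwo : ∀ u ∈ A, u ∉ stab A K → ∀ g ∈ A, g ∉ stab A K → g * u ∈ stab A K :=
    fun u hu huN g hg hgN => hfour g hg hgN u hu huN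
  rcases hor with ⟨c, hc, hcs, hc1⟩ | htriv
  · refine hS.pair_false ha haN (haσ a ha haN) (htwo a ha haN) (hstabd c hc hcs hc1 a ha haN)
      (T ⊓ stab A K) inf_le_right (fun d hd => hquad d hd.1) (b₀ := c) ⟨hc, hcs⟩ hc1 ?_
    have hhalf' : (σ '' (T : Set H)).ncard ≤
        2 * (σ '' ((T ⊓ stab A K : Subgroup H) : Set H)).ncard := by
      by_cases hall : ∀ t ∈ T, t ∈ stab A K
      · have : σ '' (T : Set H) ⊆ σ '' ((T ⊓ stab A K : Subgroup H) : Set H) :=
          Set.image_mono fun t ht => ⟨ht, hall t ht⟩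
        have := Set.ncard_le_ncard this (Set.toFinite _)
        omega
      · push Not at hall
        obtain ⟨t, ht, htN⟩ := hall
        exact hhalf t ht htN
    have h1 : Nat.card (fixSpace τ (T : Set H)) ≤
        Nat.card {x : W ⧸ U // σ c x = x} * Nat.card U := by
      rw [← Nat.card_prod]
      let F := fixSpace τ (T : Set H)
      let π : F → {x : W ⧸ U // σ c x = x} := fun w => ⟨Submodule.Quotient.mk (w : W), by
        rw [hσ, mem_fixSpace.1 w.2 c hc]⟩
      let r : {x : W ⧸ U // σ c x = x} → F := Function.invFun π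
      have hr : ∀ w : F, ((w : W) - (r (π w) : W)) ∈ U := fun w => by
        rw [← Submodule.Quotient.eq]
        exact (congrArg Subtype.val (Function.invFun_eq (f := π) ⟨w, rfl⟩)).symm
      refine Nat.card_le_card_of_injective (fun w : F => (π w, (⟨_, hr w⟩ : U))) ?_
      intro w w' h
      simp only [Prod.mk.injEq, Subtype.mk.injEq] at h
      have h2 : π w = π w' := h.1
      rw [h2] at h
      exact Subtype.ext (sub_left_injective h.2)
    have h2 := Submodule.card_eq_card_quotient_mul_card U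
    refine Nat.le_of_mul_le_mul_left ?_ (Nat.card_pos (α := U))
    calc Nat.card U * Nat.card (W ⧸ U) = Nat.card W := by rw [h2, mul_comm]
      _ ≤ (σ '' (T : Set H)).ncard * Nat.card (fixSpace τ (T : Set H)) := hW
      _ ≤ 2 * (σ '' ((T ⊓ stab A K : Subgroup H) : Set H)).ncard *
          (Nat.card {x : W ⧸ U // σ c x = x} * Nat.card U) := Nat.mul_le_mul hhalf' h1
      _ = _ := by ring
  · have hbN : b ∉ stab A K := fun h => hbσ (htriv b hbT h)
    have hbA := hTA hbT
    have himg2 : (σ '' (T : Set H)).ncard ≤ 2 := by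
      refine (hhalf b hbT hbN).trans ?_
      have : σ '' ((T ⊓ stab A K : Subgroup H) : Set H) ⊆ {1} := by
        rintro _ ⟨g, hg, rfl⟩; exact htriv g hg.1 hg.2
      have := (Set.ncard_le_ncard this (Set.toFinite _)).trans (le_of_eq (Set.ncard_singleton _))
      omega
    set f : Module.End (ZMod 2) W := τ b - 1
    have hf2 : Nat.card (LinearMap.range f) ≤ 2 := by
      have h1 := Submodule.card_eq_card_quotient_mul_card (LinearMap.ker f)
      rw [Nat.card_congr f.quotKerEquivRange.toEquiv] at h1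
      have h2 : Nat.card (fixSpace τ (T : Set H)) ≤ Nat.card (LinearMap.ker f) :=
        Nat.card_mono (Set.toFinite _) fun w hw => sub_eq_zero.2 (mem_fixSpace.1 hw b hbT)
      have h3 := hW.trans (Nat.mul_le_mul himg2 h2)
      rw [h1, mul_comm (Nat.card _)] at h3
      exact Nat.le_of_mul_le_mul_right
        h3 (Nat.card_pos (α := LinearMap.ker f))
    have hsmall : ∀ w w' : W ⧸ U, σ b w + w ≠ 0 → σ b w' + w' ≠ 0 → σ b w + w = σ b w' + w' := by
      intro y y' hy hy'
      obtain ⟨w, rfl⟩ := Submodule.Quotient.mk_surjective U y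
      obtain ⟨w', rfl⟩ := Submodule.Quotient.mk_surjective U y'
      rw [hσ, ← Submodule.Quotient.mk_add] at hy ⊢
      rw [hσ, ← Submodule.Quotient.mk_add] at hy' ⊢
      congr 1
      by_contra hne
      have hmem : ∀ v, τ b v + v ∈ LinearMap.range f := fun v => ⟨v, by
        simp [f, sub_eq_add_two]⟩
      have hsub : ({0, τ b w + w, τ b w' + w'} : Set W) ⊆ (LinearMap.range f : Set W) := by
        rintro z (rfl | rfl | rfl)
        exacts [zero_mem _, hmem w, hmem w']
      have h3 := Set.ncard_le_ncard hsub (Set.toFinite _)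
      rw [Set.ncard_insert_of_notMem (by
        rintro (h | h)
        · exact hy (by rw [← h, Submodule.Quotient.mk_zero])
        · rw [Set.mem_singleton_iff] at h
          exact hy' (by rw [← h, Submodule.Quotient.mk_zero])), Set.ncard_pair hne,
        ← Nat.card_coe_set_eq] at h3
      exact absurd (h3.trans hf2) (by norm_num)
    have hd : FixesDiag σ K b := by
      intro k hk w
      rw [sub_eq_add_two]
      have e : σ (diag 2 b k) (σ b w + w) = σ b (σ (diag 2 b k) w) + σ (diag 2 b k) w := by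
        rw [map_add, apply_apply, (hS.diag_commute hbA hbN hk).eq, map_mul, Module.End.mul_apply]
      by_cases h0 : σ b w + w = 0
      · rw [h0, map_zero]
      · rw [e]
        refine hsmall _ _ ?_ h0
        rw [← e]
        intro h
        apply h0
        have h1 := congrArg (σ (diag 2 b k)⁻¹) h
        rwa [map_zero, apply_apply, inv_mul_cancel, map_one, Module.End.one_apply] at h1
    exact hS.pair_small_false hbA hbN hbσ (htwo b hbA hbN) hd hsmall

/-- **The P(G,V) theorem.** A best offender normalizes every component. -/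
theorem best_offender_normalizes {G V : Type*} [Group G] [Finite G] [AddCommGroup V] [Finite V]
    [Module (ZMod p) V] (ρ : Representation (ZMod p) G V) (hρ : Function.Injective ρ)
    (A : Subgroup G) (hcomm : ∀ a ∈ A, ∀ b ∈ A, a * b = b * a) (hpow : ∀ a ∈ A, a ^ p = 1)
    (hA : Best ρ A) (K : Subgroup G) (hK : Cfsg.IsComponent K) :
    A ≤ Subgroup.normalizer (K : Set G) := by
  classical
  intro a ha
  by_contra haN
  set gens := {x : G | x ∈ A ∨ ∃ g ∈ A, ∃ k ∈ K, x = g * k * g⁻¹}
  set J := Subgroup.closure gens with hJ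
  have hAJ : A ≤ J := fun x hx => Subgroup.subset_closure (Or.inl hx)
  have hKJ : K ≤ J := fun x hx => Subgroup.subset_closure (Or.inr ⟨1, A.one_mem, x, hx, by simp⟩)
  obtain ⟨W, ⟨hWi, k₀, hk₀, w₀, hw₀, hne₀⟩, hWmin⟩ := Set.Finite.exists_minimal
    (s := {W : Submodule (ZMod p) V | (∀ h ∈ J, ∀ w ∈ W, ρ h w ∈ W) ∧
      ∃ k ∈ K, ∃ w ∈ W, ρ k w ≠ w}) (Set.toFinite _) ⟨⊤, fun _ _ _ _ => Submodule.mem_top, by
      by_contra hcon
      push Not at hcon
      refine CfsgLib.Comp.component_ne_bot hK (eq_bot_iff.2 fun k hk => ?_)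
      refine Subgroup.mem_bot.2 (hρ ?_)
      rw [map_one]
      exact LinearMap.ext fun v => hcon k hk v Submodule.mem_top⟩
  let τ : Representation (ZMod p) J W :=
    { toFun := fun h => (ρ (h : G)).restrict fun w hw => hWi h h.2 w hw
      map_one' := by ext w; simp
      map_mul' := fun g h => by ext w; simp }
  have hτ : ∀ (h : J) (w : W), (τ h w : V) = ρ (h : G) w := fun _ _ => rfl
  refine minimal_offender_false τ (A := A.subgroupOf J) (K := K.subgroupOf J)
    (fun x hx y hy => Subtype.ext (hcomm _ hx _ hy))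
    (fun x hx => Subtype.ext ((SubmonoidClass.coe_pow x p).trans (hpow _ hx)))
    (CfsgLib.Comp.isQuasisimple_of_equiv (Subgroup.subgroupOfEquivOfLe hKJ).symm hK.2)
    ?_ ?_ ?_ ?_ ?_ (a := ⟨a, hAJ ha⟩) ha ?_
  · intro g hg
    rcases CfsgLib.Comp.component_eq_or_commute (CfsgLib.Comp.component_conj (g : G) hK) hK with
      h | h
    · left
      intro k hk
      have h1 : (g : G) * (k : G) * (g : G)⁻¹ ∈ K.map (MulAut.conj (g : G)).toMonoidHom :=
        ⟨k, hk, rfl⟩
      rw [h] at h1
      exact h1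
    · right
      intro k hk m hm
      apply Subtype.ext
      exact (Subgroup.mem_centralizer_iff.1
        (CfsgLib.Comp.le_centralizer_of_commutator_eq_bot h ⟨k, hk, rfl⟩) m hm).symm
  · intro h
    have hmap : J ≤ (Subgroup.closure {x : J | x ∈ A.subgroupOf J ∨ ∃ g ∈ A.subgroupOf J,
        ∃ k ∈ K.subgroupOf J, x = g * k * g⁻¹}).map J.subtype := by
      conv_lhs => rw [hJ]
      rw [Subgroup.closure_le]
      rintro x (hx | ⟨g, hg, k, hk, rfl⟩)
      · exact ⟨⟨x, hAJ hx⟩, Subgroup.subset_closure (Or.inl hx), rfl⟩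
      · exact ⟨⟨g, hAJ hg⟩ * ⟨k, hKJ hk⟩ * ⟨g, hAJ hg⟩⁻¹,
          Subgroup.subset_closure (Or.inr ⟨_, hg, _, hk, rfl⟩), rfl⟩
    obtain ⟨y, hy, hyh⟩ := hmap h.2
    exact Subtype.ext hyh ▸ hy
  · intro M hM
    by_cases hfix : ∀ k ∈ K.subgroupOf J, ∀ w ∈ M, τ k w = w
    · exact Or.inl hfix
    right
    push Not at hfix
    obtain ⟨k, hk, w, hw, hne⟩ := hfix
    have hle : M.map W.subtype ≤ W := by rintro _ ⟨z, -, rfl⟩; exact z.2
    have hge : W ≤ M.map W.subtype := hWmin ⟨fun h hh v hv => by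
      obtain ⟨z, hz, rfl⟩ := hv
      exact ⟨τ ⟨h, hh⟩ z, hM _ z hz, rfl⟩,
      k, hk, w, ⟨w, hw, rfl⟩, fun e => hne (Subtype.ext e)⟩ hle
    rw [eq_top_iff]
    intro z _
    obtain ⟨z', hz', he⟩ := hge z.2
    exact Subtype.ext he ▸ hz'
  · exact ⟨⟨k₀, hKJ hk₀⟩, hk₀, fun h => hne₀ (congrArg Subtype.val
      (LinearMap.congr_fun h ⟨w₀, hw₀⟩))⟩
  · intro B hB
    set B' := B.map J.subtype with hB'def
    have hB' : B' ≤ A := by rintro _ ⟨x, hx, rfl⟩; exact hB hx
    have hc1 : Nat.card B' = Nat.card B :=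
      (Nat.card_congr (B.equivMapOfInjective _ J.subtype_injective).toEquiv).symm
    have hc2 : Nat.card (A.subgroupOf J) = Nat.card A :=
      Nat.card_congr (Subgroup.subgroupOfEquivOfLe hAJ).toEquiv
    have e : ∀ (C : Subgroup J) (C' : Subgroup G), C.map J.subtype = C' →
        Nat.card (fixSpace τ (C : Set J)) = Nat.card ↥(fixSpace ρ (C' : Set G) ⊓ W) := by
      rintro C C' rfl
      refine Nat.card_congr (Equiv.ofBijective (fun w => ⟨((w : W) : V), ?_, (w : W).2⟩) ⟨?_, ?_⟩)
      · refine mem_fixSpace.2 ?_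
        rintro _ ⟨c, hc, rfl⟩
        exact congrArg Subtype.val (mem_fixSpace.1 w.2 c hc)
      · exact fun w w' h => Subtype.ext (Subtype.ext (congrArg (fun z : ↥(_ ⊓ W) => (z : V)) h))
      · rintro ⟨v, hv, hvW⟩
        exact ⟨⟨⟨v, hvW⟩, mem_fixSpace.2 fun c hc => Subtype.ext
          (mem_fixSpace.1 hv c ⟨c, hc, rfl⟩)⟩, rfl⟩
    rw [← hc1, hc2, e B B' rfl, e (A.subgroupOf J) A (Subgroup.map_subgroupOf_eq_of_le hAJ)]
    set FA := fixSpace ρ (A : Set G)
    set FB := fixSpace ρ (B' : Set G)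
    have hFAB : FA ≤ FB := fixSpace_anti fun x hx => hB' hx
    have h1 := card_sup_mul_card_inf FA (FB ⊓ W)
    rw [← inf_assoc, inf_eq_left.2 hFAB] at h1
    have h2 : Nat.card ↥(FA ⊔ FB ⊓ W) ≤ Nat.card FB :=
      Nat.card_mono (Set.toFinite _) (sup_le hFAB inf_le_left)
    refine Nat.le_of_mul_le_mul_right ?_ (Nat.card_pos (α := FA))
    calc Nat.card B' * Nat.card ↥(FB ⊓ W) * Nat.card FA
        = Nat.card B' * (Nat.card ↥(FA ⊔ FB ⊓ W) * Nat.card ↥(FA ⊓ W)) := by rw [h1]; ring
      _ ≤ Nat.card B' * (Nat.card FB * Nat.card ↥(FA ⊓ W)) := by gcongr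
      _ = Nat.card B' * Nat.card FB * Nat.card ↥(FA ⊓ W) := by ring
      _ ≤ Nat.card A * Nat.card FA * Nat.card ↥(FA ⊓ W) := Nat.mul_le_mul_right _ (hA B' hB')
      _ = _ := by ring
  · intro h
    apply haN
    apply Subgroup.mem_normalizer_fintype
    intro k hk
    exact (Subgroup.mem_normalizer_iff.1 h.2 ⟨k, hKJ hk⟩).1 hk

end CfsgLib.Offender
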