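import Cfsg.Agent.Offender.Fixed
import Cfsg.Agent.Offender.Block
import Cfsg.Agent.Offender.Replacement
import Cfsg.Agent.HallHigman.Critical

/-!
# Odd primes: a free summand contradicts a fixed diagonal
-/

set_option autoImplicit false
set_option linter.style.haveILetI false
set_option linter.unusedSectionVars false

namespace CfsgLib.Offender

open Finset

/-- A finite reduced ring with a moving element has a free idempotent with a trace preimage. -/
theorem exists_free_part {S : Type*} [CommRing S] [Finite S] (s : S →+* S) {p : ℕ} (hp : p.Prime)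
    (hs : ∀ x, s^[p] x = x) {q : ℕ} (hq : 2 ≤ q) (hpow : ∀ x : S, x ^ q = x) {k : S}
    (hk : s k ≠ k) :
    ∃ e x : S, e ≠ 0 ∧ e * e = e ∧ s e = e ∧ e * x = x ∧ ∑ i ∈ range p, s^[i] x = e := by
  classical
  have hqm : ∀ z : S, z ^ (q - 1) * z = z := fun z => by
    rw [← pow_succ, show q - 1 + 1 = q by omega, hpow]
  have hidem : ∀ z : S, z ^ (q - 1) * z ^ (q - 1) = z ^ (q - 1) := fun z => by
    rw [← pow_add, show q - 1 + (q - 1) = (q - 1) + 1 + (q - 2) by omega, pow_add, pow_succ, hqm,
      ← pow_succ', show q - 2 + 1 = q - 1 by omega]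
  set D := (s k - k) ^ (q - 1)
  have hD0 : D ≠ 0 := fun e => hk (sub_eq_zero.1 (by rw [← hqm (s k - k)]; simp [D] at e; simp [e]))
  obtain ⟨g, ⟨hgg, hg0, hgD⟩, hmin⟩ := Set.exists_min_image
    {g : S | g * g = g ∧ g ≠ 0 ∧ g * D = g} (fun g => (Set.range (g * ·)).ncard) (Set.toFinite _)
    ⟨D, hidem _, hD0, hidem _⟩
  have hkey : ∀ z : S, g * z = 0 ∨ g * z ^ (q - 1) = g := by
    intro z
    set e1 := g * z ^ (q - 1) with he1
    by_cases h0 : e1 = 0
    · left
      calc g * z = g * z ^ (q - 1) * z := by rw [mul_assoc, hqm]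
        _ = 0 := by rw [← he1, h0, zero_mul]
    right
    have h1 : e1 * e1 = e1 := by rw [he1, mul_mul_mul_comm, hgg, hidem]
    have hge : g * e1 = e1 := by rw [he1, ← mul_assoc, hgg]
    have h2 : e1 * D = e1 := by rw [he1, mul_right_comm, hgD]
    have hsub : Set.range (e1 * ·) ⊆ Set.range (g * ·) := by
      rintro _ ⟨y, rfl⟩; exact ⟨e1 * y, by dsimp only; rw [← mul_assoc, hge]⟩
    obtain ⟨y, hy⟩ : g ∈ Set.range (e1 * ·) :=
      (Set.eq_of_subset_of_ncard_le hsub (hmin e1 ⟨h1, h0, h2⟩) (Set.toFinite _)) ▸ ⟨g, hgg⟩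
    have hy : e1 * y = g := hy
    calc e1 = g * e1 := hge.symm
      _ = e1 * y * e1 := by rw [hy]
      _ = e1 * y := by rw [mul_right_comm, h1]
      _ = g := hy
  have hadd : ∀ i x y, s^[i] (x + y) = s^[i] x + s^[i] y := fun i x y => iterate_map_add s i x y
  have hmul : ∀ i x y, s^[i] (x * y) = s^[i] x * s^[i] y := fun i x y => iterate_map_mul s i x y
  have hzero : ∀ i, s^[i] 0 = 0 := fun i => iterate_map_zero s i
  have hmod : ∀ n x, s^[n % p] x = s^[n] x := fun n x =>
    Function.IsPeriodicPt.iterate_mod_apply (hs x) n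
  have hτ : ∀ x, s (∑ i ∈ range p, s^[i] x) = ∑ i ∈ range p, s^[i] x := fun x => by
    rw [map_sum]
    have h1 := sum_range_succ' (fun i => s^[i] x) p
    rw [sum_range_succ, hs, Function.iterate_zero_apply, add_left_inj] at h1
    rw [h1]
    exact sum_congr rfl fun i _ => (Function.iterate_succ_apply' s i x).symm
  by_cases hfree : ∀ i ∈ Ico 1 p, g * s^[i] g = 0
  · set e := ∑ i ∈ range p, s^[i] g with he
    have hge : g * e = g := by
      rw [he, mul_sum, sum_eq_single 0, Function.iterate_zero_apply, hgg]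
      · intro i hi hi0
        exact hfree i (mem_Ico.2 ⟨Nat.one_le_iff_ne_zero.2 hi0, mem_range.1 hi⟩)
      · exact fun h => absurd (mem_range.2 hp.pos) h
    have hfix : ∀ i, s^[i] e = e := fun i => Function.iterate_fixed (hτ g) i
    refine ⟨e, g, fun h0 => hg0 (by rw [← hge, h0, mul_zero]), ?_, hτ g, by rw [mul_comm, hge], rfl⟩
    calc e * e = ∑ i ∈ range p, e * s^[i] g := by rw [← mul_sum]
      _ = ∑ i ∈ range p, s^[i] (e * g) := sum_congr rfl fun i _ => by rw [hmul, hfix]
      _ = e := by rw [mul_comm, hge]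
  push Not at hfree
  obtain ⟨i, hi, hgi⟩ := hfree
  rw [mem_Ico] at hi
  have hgi' : g * s^[i] g = g := by
    rcases hkey (s^[i] g) with h | h
    · exact absurd h hgi
    · have hid : ∀ n, (s^[i] g) ^ (n + 1) = s^[i] g := by
        intro n
        induction n with
        | zero => rw [pow_one]
        | succ n ih => rw [pow_succ, ih, ← hmul, hgg]
      rwa [show q - 1 = q - 2 + 1 by omega, hid] at h
  -- invert `i` modulo `p`
  have horbit : ∀ n, g * s^[n * i] g = g := by
    intro n
    induction n with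
    | zero => rw [zero_mul, Function.iterate_zero_apply, hgg]
    | succ n ih =>
      rw [Nat.succ_mul, Function.iterate_add_apply]
      calc g * s^[n * i] (s^[i] g) = g * s^[n * i] g * s^[n * i] (s^[i] g) := by rw [ih]
        _ = g * s^[n * i] (g * s^[i] g) := by rw [mul_assoc, hmul]
        _ = g := by rw [hgi', ih]
  have hall : ∀ j, g * s^[j] g = g := by
    intro j
    have hcop : i.Coprime p :=
      (hp.coprime_iff_not_dvd.2 fun hd => absurd (Nat.le_of_dvd hi.1 hd) (by omega)).symm
    obtain ⟨u, -, hu⟩ := Nat.exists_mul_mod_eq_of_coprime (j % p) hcop hp.ne_zero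
    have := horbit u
    rwa [← hmod, mul_comm u, hu, Nat.mod_mod, hmod] at this
  have hsg : s g = g := by
    have h1 := hall (p - 1)
    have h2 := congrArg s h1
    rw [map_mul, ← Function.iterate_succ_apply' s, Nat.succ_eq_add_one,
      Nat.sub_add_cancel hp.one_le, hs] at h2
    have h3 := hall 1
    rw [Function.iterate_one, mul_comm] at h3
    rw [← h2, h3]
  have hfix : ∀ j, s^[j] g = g := fun j => Function.iterate_fixed hsg j
  -- the differences are invertible under `g`
  have hdiff : ∀ l ∈ Ico 1 p, g * (k - s^[l] k) ^ (q - 1) = g := by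
    intro l hl
    rw [mem_Ico] at hl
    refine (hkey _).resolve_left fun h0 => hg0 ?_
    rw [mul_sub, sub_eq_zero] at h0
    have hch : ∀ n, g * s^[n * l] k = g * k := by
      intro n
      induction n with
      | zero => simp
      | succ n ih =>
        rw [Nat.succ_mul, add_comm, Function.iterate_add_apply]
        have := congrArg (s^[l]) ih
        rw [hmul, hmul, hfix] at this
        rw [this, h0]
    have hcop : l.Coprime p :=
      (hp.coprime_iff_not_dvd.2 fun hd => absurd (Nat.le_of_dvd hl.1 hd) (by omega)).symm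
    obtain ⟨u, -, hu⟩ := Nat.exists_mul_mod_eq_of_coprime 1 hcop hp.ne_zero
    have h1 := hch u
    rw [← hmod, mul_comm u, hu, Nat.mod_eq_of_lt hp.one_lt, Function.iterate_one] at h1
    calc g = g * D := hgD.symm
      _ = g * (s k - k) * (s k - k) ^ (q - 2) := by
        rw [mul_assoc, ← pow_succ', show q - 2 + 1 = q - 1 by omega]
      _ = 0 := by rw [mul_sub, h1, sub_self, zero_mul]
  obtain ⟨j, hj⟩ : ∃ j, g * ∑ i ∈ range p, s^[i] (k ^ j) ≠ 0 := by
    by_contra hcon
    push Not at hcon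
    have hrel : ∀ (L : Finset ℕ) (j : ℕ),
        g * ∑ i ∈ range p, s^[i] (k ^ j) * ∏ l ∈ L, (s^[i] k - s^[l] k) = 0 := by
      intro L
      induction L using Finset.induction_on with
      | empty => intro j; simpa using hcon j
      | @insert l L hl ih =>
        intro j
        have e : ∀ i, s^[i] (k ^ j) * ∏ l' ∈ insert l L, (s^[i] k - s^[l'] k) =
            s^[i] (k ^ (j + 1)) * ∏ l' ∈ L, (s^[i] k - s^[l'] k) -
              s^[l] k * (s^[i] (k ^ j) * ∏ l' ∈ L, (s^[i] k - s^[l'] k)) := by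
          intro i
          rw [prod_insert hl, pow_succ, hmul]
          ring
        rw [sum_congr rfl fun i _ => e i, sum_sub_distrib, ← mul_sum, mul_sub, ih, mul_left_comm,
          ih, mul_zero, sub_zero]
    have h := hrel (Ico 1 p) 0
    rw [sum_eq_single 0] at h
    · simp only [Function.iterate_zero_apply, pow_zero, one_mul] at h
      apply hg0
      have hprod : g * ∏ l ∈ Ico 1 p, (k - s^[l] k) ^ (q - 1) = g := by
        have : ∀ T : Finset ℕ, T ⊆ Ico 1 p → g * ∏ l ∈ T, (k - s^[l] k) ^ (q - 1) = g := by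
          intro T
          induction T using Finset.induction_on with
          | empty => simp
          | @insert l T hl ih =>
            intro hT
            rw [insert_subset_iff] at hT
            rw [prod_insert hl, ← mul_assoc, hdiff l hT.1, ih hT.2]
        exact this _ subset_rfl
      rw [← hprod, prod_pow, show q - 1 = q - 2 + 1 by omega, pow_succ', ← mul_assoc, h, zero_mul]
    · intro i hi hi0
      rw [prod_eq_zero (mem_Ico.2 ⟨Nat.one_le_iff_ne_zero.2 hi0, mem_range.1 hi⟩) (sub_self _),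
        mul_zero]
    · exact fun h' => absurd (mem_range.2 hp.pos) h'
  set τ := ∑ i ∈ range p, s^[i] (k ^ j) with hτdef
  have hτg : g * τ ^ (q - 1) = g := (hkey τ).resolve_left hj
  refine ⟨g, g * τ ^ (q - 2) * k ^ j, hg0, hgg, hsg, by rw [← mul_assoc, ← mul_assoc, hgg], ?_⟩
  calc ∑ i ∈ range p, s^[i] (g * τ ^ (q - 2) * k ^ j)
      = ∑ i ∈ range p, g * τ ^ (q - 2) * s^[i] (k ^ j) := sum_congr rfl fun i _ => by
        rw [hmul, Function.iterate_fixed (x := g * τ ^ (q - 2)) (by
          rw [map_mul, map_pow, hsg, hτ])]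
    _ = g * τ ^ (q - 2) * τ := by rw [← mul_sum]
    _ = g := by rw [mul_assoc, ← pow_succ, show q - 2 + 1 = q - 1 by omega, hτg]

variable {p : ℕ} [Fact p.Prime] {H Q : Type*} [Group H] [Finite H] [AddCommGroup Q] [Finite Q]
  [Module (ZMod p) Q] {σ : Representation (ZMod p) H Q} {A K : Subgroup H}

/-- Some `p'`-element of `K` is moved by `a` in the module. -/
theorem Setting.exists_moved (hS : Setting σ A K) {a : H} (ha : a ∈ A) (haN : a ∉ stab A K) :
    ∃ k ∈ K, (orderOf k).Coprime p ∧ σ (a * k * a⁻¹) ≠ σ k ∧ ∃ m ∈ K, m * k ≠ k * m := by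
  by_contra hcon
  push Not at hcon
  haveI := hS.quasi.1
  have hp : p.Prime := Fact.out
  let N : Subgroup K :=
    { carrier := {x | ∀ m : K, σ ((x : H) * m) = σ ((m : H) * x)}
      one_mem' := fun m => by simp
      mul_mem' := fun {x y} hx hy m => by
        calc σ ((x : H) * y * m) = σ x * σ ((y : H) * m) := by rw [mul_assoc, map_mul]
          _ = σ ((x : H) * m) * σ y := by rw [hy, map_mul, map_mul, mul_assoc]
          _ = _ := by rw [hx, map_mul, mul_assoc, ← map_mul, ← map_mul]; rfl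
      inv_mem' := fun {x} hx m => by
        calc σ ((x⁻¹ : K) * (m : H)) = σ (x : H)⁻¹ * σ ((m : H) * x) * σ (x : H)⁻¹ := by
              rw [← map_mul, ← map_mul]; simp [mul_assoc]
          _ = σ (x : H)⁻¹ * σ ((x : H) * m) * σ (x : H)⁻¹ := by rw [hx]
          _ = _ := by rw [← map_mul, ← map_mul]; simp }
  haveI : N.Normal := ⟨fun x hx g m => by
    have e : σ ((g * x * g⁻¹ : K) : H) = σ (x : H) := by
      rw [Subgroup.coe_mul, Subgroup.coe_mul, map_mul, ← hx g, ← map_mul, Subgroup.coe_inv,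
        mul_inv_cancel_right]
    rw [map_mul, map_mul, e, ← map_mul, ← map_mul]
    exact hx m⟩
  rcases CfsgLib.Comp.quasisimple_normal hS.quasi (inferInstance : N.Normal) with h | h
  · obtain ⟨k, hk, m, hm, hne⟩ := hS.exists_not_commute
    exact hne ((h ▸ Subgroup.mem_top _ : (⟨k, hk⟩ : K) ∈ N) ⟨m, hm⟩)
  haveI := hS.quasi.2
  have hpg : IsPGroup p (K ⧸ Subgroup.center K) := by
    rintro ⟨x⟩
    obtain ⟨e, r, hr, her⟩ := Nat.exists_eq_pow_mul_and_not_dvd (orderOf_pos x).ne' p hp.ne_one
    refine ⟨e, (QuotientGroup.eq_one_iff _).2 ?_⟩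
    set y := x ^ p ^ e
    by_contra hyc
    obtain ⟨m₀, hm₀⟩ : ∃ m₀ : K, m₀ * y ≠ y * m₀ := by
      by_contra hall
      push Not at hall
      exact hyc (Subgroup.mem_center_iff.2 hall)
    refine hyc (h ?_)
    have hy : (orderOf (y : H)).Coprime p := by
      rw [Subgroup.orderOf_coe]
      have hdvd : orderOf y ∣ r := orderOf_dvd_of_pow_eq_one (by
        rw [← pow_mul, ← her, pow_orderOf_eq_one])
      exact Nat.Coprime.coprime_dvd_left hdvd (hp.coprime_iff_not_dvd.2 hr).symm
    intro m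
    have h1 : σ (a * (y : H) * a⁻¹) = σ (y : H) := by
      by_contra hne
      exact hm₀ (Subtype.ext (hcon y y.2 hy hne m₀ m₀.2))
    rw [map_mul, map_mul σ (m : H), ← h1, ← map_mul, ← map_mul,
      (hS.commute ha haN y.2 m.2).eq]
  haveI := hpg.isNilpotent
  haveI : Group.IsPerfect (K ⧸ Subgroup.center K) :=
    Group.IsPerfect.ofSurjective (f := QuotientGroup.mk' (Subgroup.center K))
      (QuotientGroup.mk'_surjective _)
  exact Group.IsPerfect.not_isSolvable (K ⧸ Subgroup.center K) inferInstance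

theorem charP_end [Nontrivial Q] : CharP (Module.End (ZMod p) Q) p :=
  charP_of_injective_algebraMap (RingHom.injective (algebraMap (ZMod p) (Module.End (ZMod p) Q))) p

/-- For an odd prime, neither a quadratic mover nor a fixed diagonal occurs. -/
theorem Setting.odd_false (hS : Setting σ A K) (hp2 : p ≠ 2) {a : H} (ha : a ∈ A)
    (haN : a ∉ stab A K) (h : (σ a - 1) * (σ a - 1) = 0 ∨
      (FixesDiag σ K a ∧ ∀ v : Q, (∀ m ∈ K, σ m v = v) → v = 0)) : False := by
  classical
  have hp : p.Prime := Fact.out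
  obtain ⟨k, hkK, hkcop, hkne, m₀, hm₀, hm₀k⟩ := hS.exists_moved ha haN
  haveI : Nontrivial (Module.End (ZMod p) Q) := ⟨⟨σ (a * k * a⁻¹), σ k, hkne⟩⟩
  haveI : Nontrivial Q := by
    by_contra hQ
    rw [not_nontrivial_iff_subsingleton] at hQ
    exact hkne (LinearMap.ext fun v => Subsingleton.elim _ _)
  haveI : CharP (Module.End (ZMod p) Q) p := charP_end
  -- the algebra generated by the orbit
  let c : ℕ → Module.End (ZMod p) Q := fun i => σ (a ^ i * k * (a ^ i)⁻¹)
  have hcc : ∀ i j, Commute (c i) (c j) := by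
    intro i j
    set t := i + (p - 1) * j
    have e : a ^ i = a ^ j * a ^ t := by
      rw [← pow_add, show j + t = i + p * j by
        obtain ⟨q, hq⟩ := Nat.exists_eq_add_of_le hp.one_le
        show j + (i + (p - 1) * j) = _
        rw [hq, Nat.add_sub_cancel_left]; ring, pow_add, pow_mul, hS.pow a ha, one_pow, mul_one]
    have h1 : Commute (a ^ t * k * (a ^ t)⁻¹) k := by
      by_cases hd : p ∣ t
      · obtain ⟨u, hu⟩ := hd
        rw [hu, pow_mul, hS.pow a ha, one_pow]; simp
      · exact hS.commute_pow ha haN hd hkK hkK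
    show σ _ * σ _ = σ _ * σ _
    rw [← map_mul, ← map_mul]
    congr 1
    rw [e]
    calc a ^ j * a ^ t * k * (a ^ j * a ^ t)⁻¹ * (a ^ j * k * (a ^ j)⁻¹)
        = a ^ j * (a ^ t * k * (a ^ t)⁻¹ * k) * (a ^ j)⁻¹ := by group
      _ = a ^ j * (k * (a ^ t * k * (a ^ t)⁻¹)) * (a ^ j)⁻¹ := by rw [h1.eq]
      _ = _ := by group
  let R := Algebra.adjoin (ZMod p) (Set.range c)
  have hRc : ∀ x ∈ R, ∀ y ∈ R, Commute x y := by
    intro x hx y hy
    refine Algebra.commute_of_mem_adjoin_of_forall_mem_commute hy ?_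
    rintro _ ⟨j, rfl⟩
    refine (Algebra.commute_of_mem_adjoin_of_forall_mem_commute hx ?_).symm
    rintro _ ⟨i, rfl⟩
    exact hcc j i
  letI : CommRing R := { R.toRing with mul_comm := fun x y => Subtype.ext (hRc x x.2 y y.2).eq }
  set m := orderOf k with hm
  set q := p ^ m.totient with hq
  have hmpos : 0 < m := orderOf_pos k
  have hq2 : 2 ≤ q := hp.two_le.trans (Nat.le_self_pow (Nat.totient_pos.2 hmpos).ne' p)
  have hkq : k ^ q = k := by
    conv_rhs => rw [← pow_one k]
    rw [pow_eq_pow_iff_modEq]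
    exact Nat.ModEq.pow_totient hkcop.symm
  have hpowR : ∀ x ∈ R, x ^ q = x := by
    intro x hx
    induction hx using Algebra.adjoin_induction with
    | mem y hy =>
      obtain ⟨i, rfl⟩ := hy
      show σ _ ^ q = σ _
      rw [← map_pow, conj_pow, hkq]
    | algebraMap r =>
      rw [← map_pow, hq, ZMod.pow_card_pow]
    | add x y hx hy ihx ihy =>
      rw [hq, add_pow_char_pow_of_commute p _ (hRc x hx y hy), ← hq, ihx, ihy]
    | mul x y hx hy ihx ihy => rw [(hRc x hx y hy).mul_pow, ihx, ihy]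
  have hae : σ a * σ a⁻¹ = 1 := by rw [← map_mul, mul_inv_cancel, map_one]
  have hea : σ a⁻¹ * σ a = 1 := by rw [← map_mul, inv_mul_cancel, map_one]
  have hstab : ∀ x ∈ R, σ a * x * σ a⁻¹ ∈ R := by
    intro x hx
    induction hx using Algebra.adjoin_induction with
    | mem y hy =>
      obtain ⟨i, rfl⟩ := hy
      refine Algebra.subset_adjoin ⟨i + 1, ?_⟩
      show σ _ = σ a * σ _ * σ a⁻¹
      rw [← map_mul, ← map_mul, pow_succ']
      congr 1; group
    | algebraMap r =>
      rw [← Algebra.commutes, mul_assoc, hae, mul_one]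
      exact R.algebraMap_mem r
    | add x y _ _ ihx ihy => rw [mul_add, add_mul]; exact add_mem ihx ihy
    | mul x y _ _ ihx ihy =>
      rw [show σ a * (x * y) * σ a⁻¹ = (σ a * x * σ a⁻¹) * (σ a * y * σ a⁻¹) by
        rw [mul_assoc (σ a * x), ← mul_assoc (σ a⁻¹), ← mul_assoc (σ a⁻¹), hea, one_mul,
          mul_assoc, mul_assoc, mul_assoc]]
      exact mul_mem ihx ihy
  let s : R →+* R :=
    { toFun := fun x => ⟨σ a * x * σ a⁻¹, hstab x x.2⟩
      map_one' := Subtype.ext (by simp [hae])
      map_mul' := fun x y => Subtype.ext (by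
        show σ a * ((x : Module.End (ZMod p) Q) * y) * σ a⁻¹ = σ a * x * σ a⁻¹ * (σ a * y * σ a⁻¹)
        rw [mul_assoc (σ a * (x : Module.End (ZMod p) Q)), ← mul_assoc (σ a⁻¹),
          ← mul_assoc (σ a⁻¹), hea, one_mul, mul_assoc, mul_assoc, mul_assoc])
      map_zero' := Subtype.ext (by simp)
      map_add' := fun x y => Subtype.ext (by simp [mul_add, add_mul]) }
  have hsit : ∀ i (x : R), ((s^[i] x : R) : Module.End (ZMod p) Q) = σ (a ^ i) * x * σ (a ^ i)⁻¹ := by
    intro i x
    induction i with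
    | zero => simp
    | succ i ih =>
      rw [Function.iterate_succ_apply']
      show σ a * _ * σ a⁻¹ = _
      rw [ih, pow_succ', map_mul, mul_inv_rev, map_mul]
      simp only [mul_assoc]
  haveI : Finite (Module.End (ZMod p) Q) :=
    Finite.of_injective (fun e => (⇑e : Q → Q)) DFunLike.coe_injective
  haveI : Finite R := Finite.of_injective _ Subtype.val_injective
  let k₀ : R := ⟨c 0, Algebra.subset_adjoin ⟨0, rfl⟩⟩
  have hk0 : (k₀ : Module.End (ZMod p) Q) = σ k := by show σ _ = σ k; simp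
  obtain ⟨e, x, he0, hee, hse, hex, hsum⟩ := exists_free_part s hp
    (fun x => Subtype.ext (by rw [hsit, hS.pow a ha, inv_one, map_one, one_mul, mul_one])) hq2
    (fun x => Subtype.ext (by rw [SubmonoidClass.coe_pow]; exact hpowR x x.2)) (k := k₀)
    (fun h => hkne (by
      have h1 := congrArg Subtype.val h
      change σ a * (k₀ : Module.End (ZMod p) Q) * σ a⁻¹ = k₀ at h1
      rwa [hk0, ← map_mul, ← map_mul] at h1))
  -- the free summand
  set E : Module.End (ZMod p) Q := e.1 with hE
  set X : Module.End (ZMod p) Q := σ a - 1 with hX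
  have hEE : E * E = E := congrArg Subtype.val hee
  have hEa : Commute E (σ a) := by
    have h1 := congrArg Subtype.val hse
    change σ a * E * σ a⁻¹ = E at h1
    show E * σ a = σ a * E
    conv_lhs => rw [← h1, mul_assoc, hea, mul_one]
  have hEX : Commute E X := hEa.sub_right (Commute.one_right _)
  have hEk : Commute E (σ k) := hk0 ▸ hRc E e.2 _ k₀.2
  set L : Submodule (ZMod p) Q := LinearMap.range E
  have hLfix : ∀ v ∈ L, E v = v := by
    rintro _ ⟨w, rfl⟩
    rw [← Module.End.mul_apply, hEE]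
  have hLmap : ∀ T : Module.End (ZMod p) Q, Commute E T → L.map T ≤ L := by
    rintro T hT _ ⟨_, ⟨w, rfl⟩, rfl⟩
    exact ⟨T w, by rw [← Module.End.mul_apply, hT.eq]; rfl⟩
  have hL0 : L ≠ ⊥ := fun h => he0 (Subtype.ext (LinearMap.range_eq_bot.1 h))
  have hXp : X ^ p = 0 := by
    rw [hX, sub_pow_char_of_commute p (Commute.one_right _), ← map_pow, hS.pow a ha, map_one,
      one_pow, sub_self]
  -- fixed vectors are traces
  have hker : ∀ v ∈ L, X v = 0 → ∃ w ∈ L, (X ^ (p - 1)) w = v := by
    intro v hv hXv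
    refine ⟨(x : Module.End (ZMod p) Q) v, ⟨(x : Module.End (ZMod p) Q) v, ?_⟩, ?_⟩
    · rw [← Module.End.mul_apply]
      exact congrArg (fun f : Module.End (ZMod p) Q => f v) (congrArg Subtype.val hex)
    have hav : ∀ i : ℕ, σ (a ^ i)⁻¹ v = v := by
      intro i
      have h1 : σ a v = v := sub_eq_zero.1 (by simpa [hX] using hXv)
      have h2 : a⁻¹ ∈ fixer σ v := (fixer σ v).inv_mem h1
      rw [← inv_pow]
      exact (fixer σ v).pow_mem h2 i
    have hsum' : X ^ (p - 1) = ∑ i ∈ range p, σ a ^ i := by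
      have h1 := CfsgLib.HallHigman.sum_pow_mul_pow p 1 (Commute.one_right (σ a))
      simp only [pow_one, one_pow, mul_one] at h1
      exact h1.symm
    conv_rhs => rw [← hLfix v hv, hE, ← hsum]
    rw [hsum', AddSubmonoidClass.coe_finsetSum, LinearMap.sum_apply, LinearMap.sum_apply]
    refine sum_congr rfl fun i _ => ?_
    rw [hsit, Module.End.mul_apply, Module.End.mul_apply, hav, map_pow]
  -- a fixed vector in the free summand
  obtain ⟨v₀, hv₀L, hv₀X, hv₀⟩ : ∃ v ∈ L, X v = 0 ∧ v ≠ 0 := by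
    by_contra hcon
    push Not at hcon
    apply hL0
    rw [eq_bot_iff]
    intro w hw
    have : ∀ j, ∀ w ∈ L, (X ^ j) w = 0 → w = 0 := by
      intro j
      induction j with
      | zero => intro w _ hw; simpa using hw
      | succ j ih =>
        intro w hw hj
        rw [pow_succ, Module.End.mul_apply] at hj
        exact hcon w hw (ih _ (hLmap X hEX ⟨w, hw, rfl⟩) hj)
    exact (Submodule.mem_bot _).2 (this p w hw (by rw [hXp]; rfl))
  rcases h with hquad | ⟨hd, hfix⟩
  · obtain ⟨w, -, hw⟩ := hker v₀ hv₀L hv₀X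
    apply hv₀
    rw [← hw, show p - 1 = 2 + (p - 3) by have := hp.two_le; omega, pow_add,
      show X ^ 2 = 0 by rw [pow_two]; exact hquad, zero_mul]
    rfl
  -- two images must meet
  set R1 := L.map X
  have hR1L : R1 ≤ L := hLmap X hEX
  have hcin : L ⊓ LinearMap.ker X ≤ R1.map X := by
    rintro v ⟨hv, hvX⟩
    obtain ⟨w, hw, rfl⟩ := hker v hv hvX
    have h2 : p - 1 = (p - 3) + 1 + 1 := by have := hp.two_le; omega
    have hmem : ∀ j, (X ^ j) w ∈ L := by
      intro j
      induction j with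
      | zero => simpa using hw
      | succ j ih => rw [pow_succ', Module.End.mul_apply]; exact hLmap X hEX ⟨_, ih, rfl⟩
    rw [h2, pow_succ', Module.End.mul_apply, pow_succ', Module.End.mul_apply]
    exact ⟨_, ⟨_, hmem _, rfl⟩, rfl⟩
  have hsplit : Nat.card L = Nat.card R1 * Nat.card ↥(L ⊓ LinearMap.ker X) := by
    have h1 := Submodule.card_eq_card_quotient_mul_card (LinearMap.ker (X.domRestrict L))
    rw [Nat.card_congr (X.domRestrict L).quotKerEquivRange.toEquiv] at h1
    rw [h1, LinearMap.range_domRestrict, mul_comm]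
    congr 1
    rw [LinearMap.ker_domRestrict]
    exact ((Nat.card_congr ((Submodule.comapSubtypeEquivOfLe (inf_le_left : L ⊓ LinearMap.ker X ≤ L)).toEquiv)).symm.trans
      (by rw [Submodule.comap_inf, Submodule.comap_subtype_self, top_inf_eq])).symm
  have hR1lt : R1.map X < R1 := by
    refine lt_of_le_of_ne (Submodule.map_le_iff_le_comap.2 fun z hz => ⟨z, hR1L hz, rfl⟩) fun heq => ?_
    have hall : ∀ j, R1.map (X ^ j) = R1 := by
      intro j
      induction j with
      | zero => simp [Module.End.one_eq_id]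
      | succ j ih => rw [pow_succ', Module.End.mul_eq_comp, Submodule.map_comp, ih, heq]
    have h0 := hall p
    rw [hXp, Submodule.map_zero] at h0
    have := hcin ⟨hv₀L, LinearMap.mem_ker.2 hv₀X⟩
    rw [← h0, Submodule.map_bot, Submodule.mem_bot] at this
    exact hv₀ this
  have hclt : Nat.card ↥(L ⊓ LinearMap.ker X) < Nat.card R1 := by
    refine (Nat.card_mono (Set.toFinite _) hcin).trans_lt ?_
    exact Set.ncard_lt_ncard (SetLike.coe_ssubset_coe.2 hR1lt) (Set.toFinite _) |>.trans_le le_rfl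
      |> fun h => by rwa [← Nat.card_coe_set_eq, ← Nat.card_coe_set_eq] at h
  have hσk : Function.Injective (σ k) := fun u v huv => by
    have := congrArg (σ k⁻¹) huv
    rwa [apply_apply, apply_apply, inv_mul_cancel, map_one] at this
  have hmeet : R1 ⊓ R1.map (σ k) ≠ ⊥ := by
    intro h
    have hbot : Nat.card (⊥ : Submodule (ZMod p) Q) = 1 := Nat.card_unique
    have h2 : Nat.card ↥(R1.map (σ k)) = Nat.card R1 :=
      (Nat.card_congr (Submodule.equivMapOfInjective _ hσk R1).toEquiv).symm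
    have h3 : Nat.card ↥(R1 ⊔ R1.map (σ k)) ≤ Nat.card L :=
      Nat.card_mono (Set.toFinite _)
        (sup_le hR1L ((Submodule.map_mono hR1L).trans (hLmap (σ k) hEk)))
    have h4 : Nat.card R1 * Nat.card R1 ≤ Nat.card L := by
      have := card_sup_mul_card_inf R1 (R1.map (σ k))
      rw [h, hbot, mul_one, h2] at this
      exact this ▸ h3
    rw [hsplit] at h4
    exact absurd (Nat.le_of_mul_le_mul_left h4 Nat.card_pos) (not_le.2 hclt)
  obtain ⟨v, hv, hv0⟩ := Submodule.exists_mem_ne_zero_of_ne_bot hmeet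
  obtain ⟨⟨w, -, rfl⟩, ⟨_, ⟨w', -, rfl⟩, hw'⟩⟩ := hv
  apply hv0
  apply hfix
  set v := X w with hvdef
  -- the vector is fixed by the diagonal and by its conjugate
  have hD : ∀ y ∈ K, diag p a y ∈ fixer σ v := fun y hy => hd y hy w
  have hKy : ∀ y ∈ K, k * y * k⁻¹ * y⁻¹ ∈ fixer σ v := by
    intro y hy
    have h1 : k * diag p a y * k⁻¹ ∈ fixer σ v := by
      rw [mem_fixer, ← hw', map_mul, map_mul, Module.End.mul_apply, Module.End.mul_apply,
        apply_apply k⁻¹, inv_mul_cancel, map_one, Module.End.one_apply]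
      exact congrArg (σ k) (hd y hy w')
    have h2 := (fixer σ v).mul_mem h1 ((fixer σ v).inv_mem (hD y hy))
    rwa [hS.conj_diag ha haN hy hkK, mul_inv_cancel_right] at h2
  refine fun y hy => (hS.le_of_normal (U := fixer σ v)
    (s := {z | z ∈ K ∧ ∀ m ∈ K, m * z * m⁻¹ ∈ fixer σ v}) (fun z hz => hz.1)
    (fun z hz => by simpa using hz.2 1 K.one_mem) ?_ ?_ hy :)
  · intro m hm z hz
    refine ⟨K.mul_mem (K.mul_mem hm hz.1) (K.inv_mem hm), fun n hn => ?_⟩
    have := hz.2 (n * m) (K.mul_mem hn hm)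
    rwa [show n * m * z * (n * m)⁻¹ = n * (m * z * m⁻¹) * n⁻¹ by group] at this
  · have hcomm : ∀ y ∈ K, ∀ m ∈ K, m * (k * y * k⁻¹ * y⁻¹) * m⁻¹ ∈ fixer σ v := by
      intro y hy m hm
      have h1 := (fixer σ v).mul_mem ((fixer σ v).inv_mem (hKy m hm)) (hKy (m * y) (K.mul_mem hm hy))
      rwa [show (k * m * k⁻¹ * m⁻¹)⁻¹ * (k * (m * y) * k⁻¹ * (m * y)⁻¹) =
        m * (k * y * k⁻¹ * y⁻¹) * m⁻¹ by group] at h1
    by_contra hcon
    push Not at hcon
    haveI := hS.quasi.1
    let ψ : K →* K := (MulAut.conj (⟨k, hkK⟩ : K)).toMonoidHom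
    have hψ : ∀ y : K, ψ y = y := by
      intro y
      refine eq_self_of_central ψ (fun y => Subgroup.mem_center_iff.2 fun m => ?_) y
      apply Subtype.ext
      exact (hcon (k * y * k⁻¹ * (y : H)⁻¹) ⟨K.mul_mem (K.mul_mem (K.mul_mem hkK y.2)
        (K.inv_mem hkK)) (K.inv_mem y.2), hcomm y y.2⟩ m m.2)
    apply hm₀k
    have h1 : k * m₀ * k⁻¹ = m₀ := congrArg Subtype.val (hψ ⟨m₀, hm₀⟩)
    exact (mul_inv_eq_iff_eq_mul.1 h1).symm

end CfsgLib.Offender
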